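import Cfsg.Agent.Lib.OddBase.SmallAut
import Cfsg.Agent.Lib.FTCons.Basic
import Cfsg.Agent.Lib.Solvable.CoreFreeMaximal

/-!
A primitive permutation group of odd order has a subset of points with trivial setwise stabiliser
(given two-vector bases for smaller modules).
-/

set_option autoImplicit false
set_option linter.style.haveILetI false

open Subgroup

namespace CfsgLib.OddBase

universe u

variable {G : Type u} [Group G]

/-- The elements preserving a set of points. -/
def setStab {X : Type*} [MulAction G X] (s : Set X) : Subgroup G where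
  carrier := {a | ∀ x, a • x ∈ s ↔ x ∈ s}
  one_mem' x := by rw [one_smul]
  mul_mem' {a b} ha hb x := by rw [mul_smul, ha, hb]
  inv_mem' {a} ha x := by rw [← ha (a⁻¹ • x), smul_inv_smul]

theorem mem_setStab {X : Type*} [MulAction G X] {s : Set X} {a : G} :
    a ∈ setStab s ↔ ∀ x, a • x ∈ s ↔ x ∈ s := Iff.rfl

theorem pow_twenty_seven_le : ∀ n : ℕ, 35 ≤ n → n ^ 27 ≤ 2 ^ (4 * n) := by
  intro n hn
  induction n, hn using Nat.le_induction with
  | base => norm_num
  | succ n hn ih =>
    have h1 : ((n + 1) * 35) ^ 27 ≤ (36 * n) ^ 27 := Nat.pow_le_pow_left (by omega) _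
    rw [mul_pow, mul_pow] at h1
    have h2 : (36 : ℕ) ^ 27 ≤ 16 * 35 ^ 27 := by norm_num
    have h3 : (n + 1) ^ 27 * 35 ^ 27 ≤ (16 * n ^ 27) * 35 ^ 27 := by
      calc (n + 1) ^ 27 * 35 ^ 27 ≤ 36 ^ 27 * n ^ 27 := h1
        _ ≤ (16 * 35 ^ 27) * n ^ 27 := Nat.mul_le_mul_right _ h2
        _ = _ := by ring
    have h4 := Nat.le_of_mul_le_mul_right h3 (by norm_num)
    calc (n + 1) ^ 27 ≤ 16 * n ^ 27 := h4
      _ ≤ 16 * 2 ^ (4 * n) := Nat.mul_le_mul_left _ ih
      _ = 2 ^ (4 * (n + 1)) := by rw [show 4 * (n + 1) = 4 * n + 4 by ring, pow_add]; ring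

/-- The number of sets left invariant by an element of odd order. -/
theorem card_invariant_sets_le [Finite G] (hG : Odd (Nat.card G)) {X : Type*} [MulAction G X]
    [Finite X] (g : G) {f : ℕ} (hf : Nat.card {x : X // g • x = x} ≤ f) :
    Nat.card {s : Set X // g ∈ setStab s} ≤ 2 ^ ((Nat.card X + 2 * f) / 3) := by
  classical
  cases nonempty_fintype X
  let Ω := MulAction.orbitRel.Quotient (Subgroup.zpowers g) X
  haveI : Fintype Ω := Fintype.ofFinite Ω
  let F : {s : Set X // g ∈ setStab s} → Set Ω := fun s => {ω | ω.out ∈ s.1}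
  have hF : Function.Injective F := by
    intro s t h
    apply Subtype.ext
    ext x
    obtain ⟨⟨b, hb⟩, hx⟩ : x ∈ MulAction.orbit (Subgroup.zpowers g) (Quotient.out (⟦x⟧ : Ω)) :=
      MulAction.orbitRel_apply.1 (Quotient.exact (Quotient.out_eq (⟦x⟧ : Ω)).symm)
    have key : ∀ (r : {s : Set X // g ∈ setStab s}), x ∈ r.1 ↔ Quotient.out (⟦x⟧ : Ω) ∈ r.1 := by
      intro r
      have := (Subgroup.zpowers_le.2 r.2) hb (Quotient.out (⟦x⟧ : Ω))
      rw [← this]
      exact iff_of_eq (congrArg (· ∈ r.1) hx.symm)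
    rw [key s, key t]
    exact Set.ext_iff.1 h ⟦x⟧
  refine (Nat.card_le_card_of_injective F hF).trans ?_
  rw [Nat.card_eq_fintype_card, Fintype.card_set]
  refine Nat.pow_le_pow_right (by norm_num) ?_
  rw [Nat.le_div_iff_mul_le (by norm_num)]
  -- count the points orbit by orbit
  have hsum : Nat.card X = ∑ ω : Ω, Nat.card (MulAction.orbit (Subgroup.zpowers g) ω.out) := by
    rw [Nat.card_congr (MulAction.selfEquivSigmaOrbits (Subgroup.zpowers g) X), Nat.card_sigma]
  have hone : ∀ ω : Ω, 3 ≤ Nat.card (MulAction.orbit (Subgroup.zpowers g) ω.out) +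
      2 * if g • ω.out = ω.out then 1 else 0 := by
    intro ω
    have hdvd : Nat.card (MulAction.orbit (zpowers g) ω.out) ∣ Nat.card (zpowers g) := by
      rw [Nat.card_congr (MulAction.orbitEquivQuotientStabilizer (zpowers g) ω.out)]
      exact Subgroup.card_quotient_dvd_card _
    have hodd : Odd (Nat.card (MulAction.orbit (zpowers g) ω.out)) :=
      (hG.of_dvd_nat (Subgroup.card_subgroup_dvd_card (zpowers g))).of_dvd_nat hdvd
    obtain ⟨k, hk⟩ := hodd
    split_ifs with hfx
    · omega
    · have h1 : Nat.card (MulAction.orbit (zpowers g) ω.out) ≠ 1 := by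
        intro h
        apply hfx
        have hs := (Nat.card_eq_one_iff_unique.1 h).1
        exact congrArg Subtype.val (Subsingleton.elim
          (⟨g • ω.out, ⟨⟨g, Subgroup.mem_zpowers g⟩, rfl⟩⟩ : MulAction.orbit (zpowers g) ω.out)
          ⟨ω.out, MulAction.mem_orbit_self _⟩)
      omega
  have hfix : (∑ ω : Ω, if g • ω.out = ω.out then 1 else 0) ≤ f := by
    refine le_trans ?_ hf
    rw [← Finset.card_filter, ← Fintype.card_subtype, ← Nat.card_eq_fintype_card]
    exact Nat.card_le_card_of_injective (fun ω => (⟨_, ω.2⟩ : {x : X // g • x = x}))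
      fun a b h => Subtype.ext (Quotient.out_injective (congrArg Subtype.val h))
  have hle := Finset.sum_le_sum (s := Finset.univ) (fun ω _ => hone ω)
  rw [Finset.sum_const, Finset.card_univ, smul_eq_mul, Finset.sum_add_distrib, ← Finset.mul_sum,
    ← hsum] at hle
  omega

/-- The core-free case. -/
theorem exists_set_corefree [Finite G] (hFT : FTCons.OddSolvable.{u}) {N : ℕ}
    (hsmall : SmallBased.{u} N) (hG : Odd (Nat.card G)) {M : Subgroup G} (hM : IsCoatom M)
    (hcore : M.normalCore = ⊥) (hlt : M.index < N) :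
    ∃ s : Set (G ⧸ M), setStab (G := G) s = ⊥ := by
  haveI := hFT G hG
  haveI : Nontrivial G := by
    by_contra h
    rw [not_nontrivial_iff_subsingleton] at h
    exact hM.1 (Subsingleton.elim _ _)
  obtain ⟨R, hR⟩ := CfsgLib.MinNormal.exists_isMinNormal (G := G)
  haveI := hR.1
  obtain ⟨r, hr, ⟨hab, hexp'⟩, hRp, k, hk, hRc⟩ := hR.elementaryAbelian_of_solvable
  haveI : Fact r.Prime := ⟨hr⟩
  have hRM : ¬ R ≤ M := fun h =>
    hR.2.1 (le_bot_iff.1 (hcore ▸ (Subgroup.normal_le_normalCore.2 h : R ≤ M.normalCore)))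
  have hcompl := hR.isComplement'_of_isCoatom hab hM hRM
  have hidx : M.index = Nat.card R := hcompl.index_eq_card
  have hRodd : Odd (Nat.card R) := hG.of_dvd_nat (Subgroup.card_subgroup_dvd_card R)
  letI : CommGroup R := { (inferInstance : Group R) with mul_comm := fun a b => hab.is_comm.comm a b }
  let φ : M →* MulAut R := MulAut.conjNormal.comp M.subtype
  have hφval : ∀ (m : M) (x : R), ((φ m x : R) : G) = m * x * (m : G)⁻¹ := fun m x =>
    MulAut.conjNormal_apply _ _
  have hφ : Function.Injective φ := by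
    rw [injective_iff_map_eq_one]
    intro m hm
    have h1 : (m : G) ∈ centralizer (R : Set G) ⊓ M := by
      refine ⟨fun x hx => ?_, m.2⟩
      have := congrArg Subtype.val (DFunLike.congr_fun hm (⟨x, hx⟩ : R))
      rw [hφval, MulAut.one_apply] at this
      exact (mul_inv_eq_iff_eq_mul.1 this).symm
    rw [CoreFreeMaximal.centralizer_inf_eq_bot hM hcore hR.2.1, mem_bot] at h1
    exact Subtype.ext h1
  -- the point of `G ⧸ M` attached to an element of `R`
  let pt : R → G ⧸ M := fun x => ((x : G) : G ⧸ M)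
  have hpt : Function.Bijective pt := by
    have hinj : Function.Injective pt := by
      intro x y h
      have hm : (x : G)⁻¹ * y ∈ M := QuotientGroup.eq.1 h
      have : (x : G)⁻¹ * y ∈ (⊥ : Subgroup G) :=
        hcompl.disjoint.le_bot ⟨R.mul_mem (R.inv_mem x.2) y.2, hm⟩
      exact Subtype.ext (inv_mul_eq_one.1 (mem_bot.1 this))
    exact (Nat.bijective_iff_injective_and_card pt).2 ⟨hinj, by rw [← hidx]; rfl⟩
  have hmpt : ∀ (m : M) (x : R), (m : G) • pt x = pt (φ m x) := by
    intro m x
    show (((m : G) * x : G) : G ⧸ M) = ((φ m x : G) : G ⧸ M)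
    rw [hφval, QuotientGroup.eq]
    convert M.inv_mem m.2 using 1
    group
  -- a regular point gives a set of two points
  have hreg : ∀ ν : R, ν ≠ 1 → (∀ m : M, φ m ν = ν → m = 1) →
      ∃ s : Set (G ⧸ M), setStab (G := G) s = ⊥ := by
    intro ν hν hfree
    refine ⟨{pt 1, pt ν}, eq_bot_iff.2 fun a ha => ?_⟩
    have hne : pt 1 ≠ pt ν := fun h => hν (hpt.1 h).symm
    have hstab : ∀ a : G, a • pt 1 = pt 1 → a • pt ν = pt ν → a = 1 := by
      intro a h1 h2
      have haM : a ∈ M := by
        have := h1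
        simp only [pt, OneMemClass.coe_one] at this
        rw [MulAction.Quotient.smul_coe, QuotientGroup.eq] at this
        simpa [smul_eq_mul] using this
      have := hfree ⟨a, haM⟩ (hpt.1 (by rw [← hmpt]; exact h2))
      exact congrArg Subtype.val this
    have h1 := (ha (pt 1)).2 (Or.inl rfl)
    have h2 := (ha (pt ν)).2 (Or.inr rfl)
    rw [mem_bot]
    rcases h1 with h1 | h1
    · rcases h2 with h2 | h2
      · exact absurd (MulAction.injective a (h2.trans h1.symm)) hne.symm
      · exact hstab a h1 h2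
    · rcases h2 with h2 | h2
      · have hsq := hstab (a * a) (by rw [mul_smul, h1, h2]) (by rw [mul_smul, h2, h1])
        have := eq_one_of_sq hG (MonoidHom.id G) hsq
        rw [MonoidHom.id_apply] at this
        exact this
      · exact absurd (MulAction.injective a (h1.trans (Set.mem_singleton_iff.1 h2).symm)) hne
  have hMcard : Nat.card G = Nat.card R * Nat.card M := hcompl.card_mul.symm
  -- the counting criterion
  have hcount : Nat.card G * 2 ^ (5 * Nat.card R / 9) ≤ 2 * 2 ^ Nat.card R →
      ∃ s : Set (G ⧸ M), setStab (G := G) s = ⊥ := by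
    intro hle
    classical
    cases nonempty_fintype G
    refine exists_free hG _ ?_
    have hfixg : ∀ g : G, g ≠ 1 → Nat.card {x : G ⧸ M // g • x = x} * 3 ≤ Nat.card R := by
      intro g hg
      rcases isEmpty_or_nonempty {x : G ⧸ M // g • x = x} with he | ⟨⟨x₀, hx₀⟩⟩
      · rw [Nat.card_of_isEmpty]; omega
      obtain ⟨h, rfl⟩ := QuotientGroup.mk_surjective x₀
      have hm : h⁻¹ * g * h ∈ M := by
        rw [MulAction.Quotient.smul_coe, QuotientGroup.eq] at hx₀
        have := inv_mem hx₀
        simpa [mul_assoc] using this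
      let m : M := ⟨_, hm⟩
      have hm1 : m ≠ 1 := fun e => hg (by
        have : h⁻¹ * g * h = 1 := congrArg Subtype.val e
        simpa [mul_assoc, inv_mul_eq_one, eq_comm] using this)
      let S : Subgroup R := (φ m).toMonoidHom.eqLocus (MonoidHom.id R)
      let e : S → {x : G ⧸ M // g • x = x} := fun x => ⟨h • pt x.1, by
        have h1 : (m : G) • pt x.1 = pt x.1 := by
          rw [hmpt]; exact congrArg pt x.2
        rw [← mul_smul, show g * h = h * (m : G) by simp [m, mul_assoc], mul_smul, h1]⟩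
      have he : Function.Surjective e := by
        rintro ⟨x, hx⟩
        obtain ⟨y, hy⟩ := hpt.2 (h⁻¹ • x)
        refine ⟨⟨y, hpt.1 ?_⟩, Subtype.ext (show h • pt y = x by rw [hy, smul_inv_smul])⟩
        show pt (φ m y) = pt y
        rw [← hmpt, hy, show ((m : G)) = h⁻¹ * g * h from rfl, mul_smul, mul_smul, smul_inv_smul, hx]
      have hS : S ≠ ⊤ := fun e => hm1 (hφ (by
        rw [map_one]
        ext x
        have : x ∈ S := by rw [e]; exact mem_top x
        exact congrArg Subtype.val (show φ m x = x from this)))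
      have h3 : 3 ≤ S.index := by
        have h1 : S.index ≠ 1 := fun e => hS (Subgroup.index_eq_one.1 e)
        obtain ⟨j, hj⟩ := hRodd.of_dvd_nat S.index_dvd_card
        omega
      calc _ ≤ Nat.card S * 3 := Nat.mul_le_mul_right _ (Nat.card_le_card_of_surjective e he)
        _ ≤ Nat.card S * S.index := Nat.mul_le_mul_left _ h3
        _ = Nat.card R := S.card_mul_index
    have hterm : ∀ g ∈ Finset.univ.erase (1 : G),
        Nat.card {s : Set (G ⧸ M) // g ∈ setStab s} ≤ 2 ^ (5 * Nat.card R / 9) := by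
      intro g hg
      have hf := hfixg g (Finset.mem_erase.1 hg).1
      refine (card_invariant_sets_le hG g le_rfl).trans (Nat.pow_le_pow_right (by norm_num) ?_)
      rw [show Nat.card (G ⧸ M) = Nat.card R from hidx]
      omega
    refine (Finset.sum_le_sum hterm).trans_lt ?_
    rw [Finset.sum_const, smul_eq_mul, Finset.card_erase_of_mem (Finset.mem_univ _),
      Finset.card_univ, ← Nat.card_eq_fintype_card]
    have hset : Nat.card (Set (G ⧸ M)) = 2 ^ Nat.card R := by
      rw [← hidx]
      haveI : Fintype (G ⧸ M) := Fintype.ofFinite _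
      rw [Nat.card_eq_fintype_card, Fintype.card_set, ← Nat.card_eq_fintype_card]
      rfl
    rw [hset]
    have hpos : 0 < 2 ^ (5 * Nat.card R / 9) := Nat.two_pow_pos _
    have hG1 := Nat.card_pos (α := G)
    rw [Nat.sub_mul, one_mul]
    have : 0 < Nat.card G * 2 ^ (5 * Nat.card R / 9) := Nat.mul_pos hG1 hpos
    omega
  -- the action on `R` is irreducible
  have hirr : Irr (addRep φ) := by
    intro U hU
    let P : Subgroup G :=
      { carrier := {x | ∃ hx : x ∈ R, Additive.ofMul (⟨x, hx⟩ : R) ∈ U}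
        one_mem' := ⟨R.one_mem, U.zero_mem⟩
        mul_mem' := fun {x y} ⟨hx, hxU⟩ ⟨hy, hyU⟩ => ⟨R.mul_mem hx hy, U.add_mem hxU hyU⟩
        inv_mem' := fun {x} ⟨hx, hxU⟩ => ⟨R.inv_mem hx, U.neg_mem hxU⟩ }
    have hPR : P ≤ R := fun x hx => hx.1
    have hPn : P.Normal := by
      refine ⟨fun x hx g => ?_⟩
      have hg : g ∈ R ⊔ M := by rw [hcompl.sup_eq_top]; exact mem_top g
      obtain ⟨a, ha, b, hb, rfl⟩ := mem_sup_of_normal_left.1 hg
      have hb' : b * x * b⁻¹ ∈ P := by
        obtain ⟨hxR, hxU⟩ := hx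
        refine ⟨hR.1.conj_mem x hxR b, ?_⟩
        have := hU ⟨b, hb⟩ _ hxU
        convert this using 1
        exact congrArg Additive.ofMul (Subtype.ext (hφval ⟨b, hb⟩ ⟨x, hxR⟩).symm)
      have hcm : a * (b * x * b⁻¹) = b * x * b⁻¹ * a :=
        congrArg Subtype.val (hab.is_comm.comm (⟨a, ha⟩ : R) ⟨_, hPR hb'⟩)
      have : a * b * x * (a * b)⁻¹ = b * x * b⁻¹ := by
        calc a * b * x * (a * b)⁻¹ = a * (b * x * b⁻¹) * a⁻¹ := by group
          _ = _ := by rw [hcm, mul_inv_cancel_right]
      rw [this]; exact hb'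
    rcases hR.2.2 P hPn hPR with h | h
    · left
      rw [eq_bot_iff]
      intro v hv
      have : ((v.toMul : R) : G) ∈ P := ⟨v.toMul.2, hv⟩
      rw [h, mem_bot] at this
      exact AddSubgroup.mem_bot.2 (congrArg Additive.ofMul (Subtype.ext this : v.toMul = 1))
    · right
      rw [eq_top_iff]
      intro v _
      have : ((v.toMul : R) : G) ∈ P := by rw [h]; exact v.toMul.2
      exact this.2
  have hMle : Nat.card M ≤ Nat.card R * Nat.card R := by
    obtain ⟨⟨v, w⟩, hvw⟩ := hsmall M (Additive R) (addRep φ)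
      (hG.of_dvd_nat (Subgroup.card_subgroup_dvd_card M))
      (by rw [Nat.card_congr (Additive.toMul (α := R)), ← hidx]; exact hlt) hirr.cr
    rw [← Nat.card_congr (Additive.toMul (α := R)), ← Nat.card_prod]
    refine Nat.card_le_card_of_injective (fun m => (addRep φ m v, addRep φ m w)) fun a b h => ?_
    have hfix : ∀ x, addRep φ a x = addRep φ b x → addRep φ (b⁻¹ * a) x = x := fun x hx => by
      rw [apply_mul, hx, apply_inv_apply]
    have h1 := hvw (b⁻¹ * a) (hfix v (congrArg Prod.fst h)) (hfix w (congrArg Prod.snd h))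
    rw [addRep_eq_one, ← map_one φ] at h1
    exact (inv_mul_eq_one.1 (hφ h1)).symm
  -- small cases
  have hsame : ∀ ν : R, ∀ m : M, φ m ν = ν → ν ≠ 1 → (Nat.card R).Prime → m = 1 := by
    intro ν m hm hν hp
    let S : Subgroup R := (φ m).toMonoidHom.eqLocus (MonoidHom.id R)
    haveI := Fact.mk hp
    have hS : S = ⊤ := S.eq_bot_or_eq_top_of_prime_card.resolve_left fun e => hν (by
      have : ν ∈ S := hm
      rwa [e, mem_bot] at this)
    apply hφ
    rw [map_one]
    ext x
    have : x ∈ S := by rw [hS]; exact mem_top x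
    exact congrArg Subtype.val (show φ m x = x from this)
  have hexp : ∀ x : R, x ^ r = 1 := fun x => by
    have := hexp' (x : G) x.2
    exact Subtype.ext (by simpa using this)
  have hnoP : ∀ P : Subgroup M, P.Normal → IsPGroup r P → P = ⊥ := by
    intro P hPn hPp
    rw [eq_bot_iff]
    intro p hp
    exact mem_bot.2 (hφ ((eq_bot_of_normal_pGroup hRp φ hirr.cr P (hPp.map φ) p hp).trans
      (map_one φ).symm))
  have hdiv : Nat.card M ∣ ∏ i : Fin k, (r ^ k - r ^ (i : ℕ)) := card_dvd_aut hRc hexp φ hφ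
  have hModd : Odd (Nat.card M) := hG.of_dvd_nat (Subgroup.card_subgroup_dvd_card M)
  haveI := hFT M hModd
  rcases Nat.lt_or_ge (Nat.card R) 35 with hsm | hbig
  swap
  · apply hcount
    have h1 : Nat.card G ≤ Nat.card R ^ 3 := by
      rw [hMcard, pow_succ' _ 2, pow_two]; exact Nat.mul_le_mul_left _ hMle
    refine le_trans (Nat.mul_le_mul_right _ h1) ?_
    refine le_trans ?_ (Nat.le_mul_of_pos_left _ (by norm_num))
    rw [← Nat.pow_le_pow_iff_left (show 9 ≠ 0 by norm_num), mul_pow, ← pow_mul, ← pow_mul, ← pow_mul]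
    calc Nat.card R ^ (3 * 9) * 2 ^ (5 * Nat.card R / 9 * 9)
        ≤ 2 ^ (4 * Nat.card R) * 2 ^ (5 * Nat.card R) :=
          Nat.mul_le_mul (pow_twenty_seven_le _ hbig)
            (Nat.pow_le_pow_right (by norm_num) (by omega))
      _ = _ := by rw [← pow_add]; congr 1; ring
  · obtain ⟨x, hx⟩ : ∃ x : R, x ≠ 1 := by
      by_contra hcon
      push Not at hcon
      exact hR.2.1 ((Subgroup.eq_bot_iff_forall _).2 fun y hy => congrArg Subtype.val (hcon ⟨y, hy⟩))
    rcases Nat.eq_or_lt_of_le hk with rfl | hk2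
    · exact hreg x hx fun m hm => hsame x m hm hx (by rw [hRc, pow_one]; exact hr)
    have hr2 : r ≠ 2 := by
      rintro rfl
      rw [hRc] at hRodd
      exact (Nat.not_even_iff_odd.2 hRodd) (Nat.even_pow.2 ⟨even_two, by omega⟩)
    have hr5 : r ≤ 5 := by
      by_contra h
      have : 36 ≤ r ^ k := (by nlinarith : 36 ≤ r ^ 2).trans (Nat.pow_le_pow_right hr.pos hk2)
      omega
    -- a prime order group or a trivial one has a regular point
    have hsmallM : Nat.card M = 1 ∨ (Nat.card M).Prime →
        ∃ s : Set (G ⧸ M), setStab (G := G) s = ⊥ := by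
      intro h
      by_cases hall : ∀ m : M, m = 1
      · exact hreg x hx fun m _ => hall m
      push Not at hall
      obtain ⟨m₀, hm₀⟩ := hall
      have hp : (Nat.card M).Prime := h.resolve_left fun e => hm₀ (by
        haveI := (Nat.card_eq_one_iff_unique.1 e).1
        exact Subsingleton.elim _ _)
      obtain ⟨ν, hν⟩ : ∃ ν : R, φ m₀ ν ≠ ν := by
        by_contra hcon
        push Not at hcon
        exact hm₀ (hφ (by rw [map_one]; ext y; exact congrArg Subtype.val (hcon y)))
      refine hreg ν (fun e => hν (by rw [e, map_one])) fun m hm => ?_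
      by_contra hne
      haveI := Fact.mk hp
      have htop : zpowers m = ⊤ :=
        (zpowers m).eq_bot_or_eq_top_of_prime_card.resolve_left (by rwa [zpowers_eq_bot])
      let S : Subgroup M :=
        { carrier := {y | φ y ν = ν}
          one_mem' := by simp
          mul_mem' := fun {a b} ha hb => by
            simp only [Set.mem_ofPred_eq] at *
            rw [map_mul, MulAut.mul_apply, hb, ha]
          inv_mem' := fun {a} ha => by
            simp only [Set.mem_ofPred_eq] at *
            conv_lhs => rw [← ha]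
            rw [map_inv, MulAut.inv_apply_self] }
      exact hν ((zpowers_le.2 (show m ∈ S from hm)) (htop ▸ mem_top m₀))
    have hk3 : k ≤ 3 := by
      by_contra h
      have h3 : 3 ≤ r := by have := hr.two_le; omega
      have : 81 ≤ r ^ k :=
        (Nat.pow_le_pow_left h3 4).trans (Nat.pow_le_pow_right hr.pos (by omega))
      omega
    have hcop : ∀ j, (2 ^ j).Coprime (Nat.card M) := fun j =>
      (Nat.coprime_two_left.2 hModd).pow_left j
    rcases (show r = 3 ∨ r = 5 by have := hr.two_le; interval_cases r <;> norm_num at *) with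
      rfl | rfl
    · rcases (show k = 2 ∨ k = 3 by omega) with rfl | rfl
      · simp [Fin.prod_univ_two] at hdiv
        have h3 : Nat.card M ∣ 3 := (hcop 4).symm.dvd_of_dvd_mul_left hdiv
        exact hsmallM ((Nat.dvd_prime Nat.prime_three).1 h3 |>.imp id fun e => by rw [e]; exact Nat.prime_three)
      · simp [Fin.prod_univ_three] at hdiv
        have h351 : Nat.card M ∣ 3 ^ 3 * 13 := (hcop 5).symm.dvd_of_dvd_mul_left hdiv
        haveI : Fact (Nat.Prime 13) := ⟨by norm_num⟩
        have h156 := card_dvd_of_no_pCore h351 hnoP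
        have h39 : Nat.card M ∣ 39 := by
          have := (hcop 2).symm.dvd_of_dvd_mul_left (show Nat.card M ∣ 2 ^ 2 * 39 by simpa using h156)
          exact this
        apply hcount
        have := Nat.le_of_dvd (by norm_num) h39
        rw [hMcard, hRc]
        calc 3 ^ 3 * Nat.card M * 2 ^ (5 * 3 ^ 3 / 9) ≤ 3 ^ 3 * 39 * 2 ^ (5 * 3 ^ 3 / 9) :=
              Nat.mul_le_mul_right _ (Nat.mul_le_mul_left _ this)
          _ ≤ _ := by norm_num
    · rcases (show k = 2 ∨ k = 3 by omega) with rfl | rfl
      · simp [Fin.prod_univ_two] at hdiv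
        have h15 : Nat.card M ∣ 5 ^ 1 * 3 :=
          (hcop 5).symm.dvd_of_dvd_mul_left hdiv
        haveI : Fact (Nat.Prime 3) := ⟨Nat.prime_three⟩
        have h6 := card_dvd_of_no_pCore h15 hnoP
        have h3 : Nat.card M ∣ 3 := (hcop 1).symm.dvd_of_dvd_mul_left (by simpa using h6)
        exact hsmallM ((Nat.dvd_prime Nat.prime_three).1 h3 |>.imp id fun e => by rw [e]; exact Nat.prime_three)
      · norm_num [hRc] at hsm

/-- A maximal subgroup `M` of a group of odd order: some set of cosets is preserved only by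
elements fixing every coset. -/
theorem exists_set [Finite G] (hFT : FTCons.OddSolvable.{u}) {N : ℕ}
    (hsmall : SmallBased.{u} N) (hG : Odd (Nat.card G)) {M : Subgroup G} (hM : IsCoatom M)
    (hlt : M.index < N) :
    ∃ s : Set (G ⧸ M), ∀ a : G, a ∈ setStab s → ∀ x : G ⧸ M, a • x = x := by
  let K := M.normalCore
  let f : G →* G ⧸ K := QuotientGroup.mk' K
  have hf : Function.Surjective f := QuotientGroup.mk'_surjective K
  have hker : f.ker ≤ M := by rw [QuotientGroup.ker_mk']; exact M.normalCore_le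
  have hcomap : (M.map f).comap f = M := Subgroup.comap_map_eq_self hker
  have hidx : (M.map f).index = M.index := by
    rw [← Subgroup.index_comap_of_surjective _ hf, hcomap]
  have hM' : IsCoatom (M.map f) := by
    refine ⟨fun e => hM.1 (hcomap.symm.trans ((congrArg (Subgroup.comap f) e).trans
      (Subgroup.comap_top f))), fun Y hY => ?_⟩
    have h := hM.2 (Y.comap f) (lt_of_le_of_ne (hcomap.ge.trans (comap_mono hY.le))
      fun e => hY.ne ((congrArg (Subgroup.map f) e).trans (map_comap_eq_self_of_surjective hf Y)))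
    rw [← map_comap_eq_self_of_surjective hf Y, h, map_top_of_surjective f hf]
  have hcore : (M.map f).normalCore = ⊥ := by
    rw [eq_bot_iff]
    intro y hy
    obtain ⟨g, rfl⟩ := hf y
    have hle : ((M.map f).normalCore).comap f ≤ M.normalCore :=
      Subgroup.normal_le_normalCore.2 (le_trans (comap_mono (normalCore_le _)) hcomap.le)
    rw [mem_bot, ← MonoidHom.mem_ker, QuotientGroup.ker_mk']
    exact hle hy
  obtain ⟨s, hs⟩ := exists_set_corefree hFT hsmall (hG.of_dvd_nat (Subgroup.card_quotient_dvd_card K))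
    hM' hcore (by rw [hidx]; exact hlt)
  let π : G ⧸ M → (G ⧸ K) ⧸ (M.map f) := Quotient.map' f fun a b h => by
    rw [QuotientGroup.leftRel_apply] at h ⊢
    exact ⟨_, h, by rw [map_mul, map_inv]⟩
  have hπ : ∀ (a : G) (x : G ⧸ M), π (a • x) = f a • π x := by
    intro a x
    induction x using QuotientGroup.induction_on with
    | _ g =>
      show ((f (a * g) : G ⧸ K) : (G ⧸ K) ⧸ (M.map f)) = ((f a * f g : G ⧸ K) : _)
      rw [map_mul]
  have hπs : Function.Surjective π := by
    intro y
    induction y using QuotientGroup.induction_on with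
    | _ z =>
      obtain ⟨g, rfl⟩ := hf z
      exact ⟨(g : G ⧸ M), rfl⟩
  refine ⟨π ⁻¹' s, fun a ha x => ?_⟩
  have h1 : f a ∈ setStab (G := G ⧸ K) s := by
    intro y
    obtain ⟨x, rfl⟩ := hπs y
    rw [← hπ]
    exact ha x
  rw [hs, mem_bot, ← MonoidHom.mem_ker, QuotientGroup.ker_mk'] at h1
  induction x using QuotientGroup.induction_on with
  | _ g =>
    rw [MulAction.Quotient.smul_coe, QuotientGroup.eq]
    have := h1 g⁻¹
    have h2 := inv_mem this
    simpa [mul_assoc] using h2

end CfsgLib.OddBase
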