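import Cfsg.Agent.Lib.OddBase.Layer

/-!
Dimension and automorphism bounds for the layer.
-/

set_option autoImplicit false
set_option linter.style.haveILetI false

open Subgroup
open scoped commutatorElement

namespace CfsgLib.OddBase

universe u

variable {A : Type u} [Group A] [Finite A] {V : Type u} [AddCommGroup V] [Finite V] [Nontrivial V]
  {ρ : A →* AddMonoid.End V} {U E : Subgroup A}

/-- The elements of the layer modulo the scalars are independent over the scalar field. -/
theorem exists_dim (h : Quasi ρ U) (hL : Layer U E) :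
    ∃ l : ℕ, Nat.card V = Nat.card (scalarRing ρ U) ^ l ∧ U.relIndex E ≤ l * l := by
  haveI := h.normal
  haveI := hL.normal
  haveI hQn := hL.normal_quot
  letI fK := h.isField.toField
  haveI : Finite (AddMonoid.End V) := Finite.of_injective _ DFunLike.coe_injective
  let mV : Module (scalarRing ρ U) V := Module.compHom V (scalarRing ρ U).subtype
  have hsmul : ∀ (c : scalarRing ρ U) (v : V), c • v = (c : AddMonoid.End V) v := fun c v => rfl
  haveI : Module.Finite (scalarRing ρ U) V := Module.Finite.of_finite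
  refine ⟨Module.finrank (scalarRing ρ U) V, Module.natCard_eq_pow_finrank, ?_⟩
  -- representatives as linear maps
  let W := E ⧸ U.subgroupOf E
  let L : W → (V →ₗ[scalarRing ρ U] V) := fun w =>
    { toFun := fun v => ρ (w.out : A) v
      map_add' := fun v v' => map_add _ v v'
      map_smul' := fun c v => by
        rw [hsmul, RingHom.id_apply, hsmul]
        exact DFunLike.congr_fun (h.comm_scalar (hL.le_cent w.out.2) c.2) v }
  let χ : W → (E →* scalarRing ρ U) := fun w =>
    { toFun := fun y => ⟨ρ ⁅(y : A), (w.out : A)⁆,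
        apply_mem_scalarRing ρ (hL.comm y y.2 _ w.out.2)⟩
      map_one' := Subtype.ext (by simp [commutatorElement_def])
      map_mul' := fun y z => Subtype.ext (by
        show ρ ⁅(y : A) * z, (w.out : A)⁆ = ρ ⁅(y : A), (w.out : A)⁆ * ρ ⁅(z : A), (w.out : A)⁆
        rw [← map_mul]
        congr 1
        have hc := hL.commute (hL.comm z z.2 _ w.out.2) y.2
        have hu := h.comm _ (hL.comm y y.2 _ w.out.2) _ (hL.comm z z.2 _ w.out.2)
        calc ⁅(y : A) * z, (w.out : A)⁆
            = ((y : A) * ⁅(z : A), (w.out : A)⁆) * (y : A)⁻¹ * ⁅(y : A), (w.out : A)⁆ := by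
              simp only [commutatorElement_def]; group
          _ = ⁅(z : A), (w.out : A)⁆ * ⁅(y : A), (w.out : A)⁆ := by
              rw [← hc, mul_inv_cancel_right]
          _ = _ := hu.symm) }
  have hχ : Function.Injective χ := by
    intro w w' e
    rw [← Quotient.out_eq w, ← Quotient.out_eq w']
    refine Quotient.sound (QuotientGroup.leftRel_apply.2 ?_)
    rw [mem_subgroupOf]
    refine hL.center_le ⟨(w.out⁻¹ * w'.out : E).2, mem_centralizer_iff.2 fun y hy => ?_⟩
    have e1 : ⁅y, (w.out : A)⁆ = ⁅y, (w'.out : A)⁆ :=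
      h.inj (congrArg Subtype.val (DFunLike.congr_fun e (⟨y, hy⟩ : E)))
    rw [commutatorElement_def, commutatorElement_def] at e1
    show y * ((w.out : A)⁻¹ * w'.out) = (w.out : A)⁻¹ * w'.out * y
    have e2 : (w.out : A) * (y⁻¹ * (w.out : A)⁻¹) = (w'.out : A) * (y⁻¹ * (w'.out : A)⁻¹) := by
      have e3 := congrArg (fun z => y⁻¹ * z) e1
      simpa [mul_assoc] using e3
    calc y * ((w.out : A)⁻¹ * w'.out)
        = (w.out : A)⁻¹ * ((w.out : A) * (y⁻¹ * (w.out : A)⁻¹))⁻¹⁻¹⁻¹ * w'.out := by group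
      _ = (w.out : A)⁻¹ * ((w'.out : A) * (y⁻¹ * (w'.out : A)⁻¹))⁻¹⁻¹⁻¹ * w'.out := by rw [e2]
      _ = _ := by group
  have hli : LinearIndependent (scalarRing ρ U) L := by
    haveI : Fintype W := Fintype.ofFinite W
    rw [Fintype.linearIndependent_iff]
    intro c hc i
    obtain ⟨v, hv⟩ := exists_ne (0 : V)
    by_contra hci
    have hne : c i • L i v ≠ 0 := by
      rw [smul_ne_zero_iff]
      exact ⟨hci, fun e => hv (apply_injective ρ _ (e.trans (map_zero _).symm))⟩
    obtain ⟨φ, hφ⟩ := LinearMap.exists_extend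
      ((LinearEquiv.toSpanNonzeroSingleton (scalarRing ρ U) V _ hne).symm.toLinearMap)
    have hφ1 : φ (c i • L i v) = 1 := by
      have := LinearMap.congr_fun hφ ⟨c i • L i v, Submodule.mem_span_singleton_self _⟩
      simp only [LinearMap.comp_apply, Submodule.subtype_apply, LinearEquiv.coe_coe] at this
      rw [this, LinearEquiv.symm_apply_eq, LinearEquiv.toSpanNonzeroSingleton_one]
    have hrel : ∑ w, φ (c w • L w v) • ((χ w : E →* scalarRing ρ U) : E → scalarRing ρ U) = 0 := by
      funext y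
      rw [Finset.sum_apply, Pi.zero_apply]
      have h1 : ∑ w, (χ w y) • (c w • L w v) = 0 := by
        have h2 := LinearMap.congr_fun hc (ρ (y : A)⁻¹ v)
        simp only [LinearMap.sum_apply, LinearMap.smul_apply, LinearMap.zero_apply] at h2
        have h3 := congrArg (ρ (y : A)) h2
        rw [map_sum, map_zero] at h3
        rw [← h3]
        refine Finset.sum_congr rfl fun w _ => ?_
        rw [smul_comm (χ w y), hsmul, hsmul, hsmul]
        have e4 : ρ (y : A) ((c w : AddMonoid.End V) (L w (ρ (y : A)⁻¹ v))) =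
            (c w : AddMonoid.End V) (ρ (y : A) (L w (ρ (y : A)⁻¹ v))) :=
          DFunLike.congr_fun (h.comm_scalar (hL.le_cent y.2) (c w).2) _
        rw [e4]
        congr 1
        show ρ ⁅(y : A), (w.out : A)⁆ (ρ (w.out : A) v) = ρ (y : A) (ρ (w.out : A) (ρ (y : A)⁻¹ v))
        rw [← apply_mul, ← apply_mul, ← apply_mul, commutatorElement_def]
        congr 2
        group
      have h5 := congrArg φ h1
      rw [map_sum, map_zero] at h5
      rw [← h5]
      refine Finset.sum_congr rfl fun w _ => ?_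
      rw [Pi.smul_apply, smul_eq_mul, map_smul φ (χ w y), smul_eq_mul, mul_comm]
    have := Fintype.linearIndependent_iff.1
      ((linearIndependent_monoidHom E (scalarRing ρ U)).comp χ hχ) _ hrel i
    rw [hφ1] at this
    exact one_ne_zero this
  haveI : Fintype W := Fintype.ofFinite W
  have := hli.fintype_card_le_finrank
  rw [Module.finrank_linearMap, ← Nat.card_eq_fintype_card] at this
  exact this

/-- The action on the layer modulo the scalars is completely reducible. -/
theorem act_cr (h : Quasi ρ U) (hL : Layer U E) [U.Normal] [E.Normal] [hn : (U.subgroupOf E).Normal]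
    [IsCyclic U] :
    letI : CommGroup (E ⧸ U.subgroupOf E) :=
      { (inferInstance : Group (E ⧸ U.subgroupOf E)) with mul_comm := hL.quot_comm }
    CR (addRep hL.act) := by
  letI : CommGroup (E ⧸ U.subgroupOf E) :=
    { (inferInstance : Group (E ⧸ U.subgroupOf E)) with mul_comm := hL.quot_comm }
  show CR (addRep hL.act)
  intro X hX
  let P : Subgroup A :=
    { carrier := {x | ∃ hx : x ∈ E, Additive.ofMul ((⟨x, hx⟩ : E) : E ⧸ U.subgroupOf E) ∈ X}
      one_mem' := ⟨E.one_mem, X.zero_mem⟩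
      mul_mem' := fun {x y} ⟨hx, hxX⟩ ⟨hy, hyX⟩ => ⟨E.mul_mem hx hy, X.add_mem hxX hyX⟩
      inv_mem' := fun {x} ⟨hx, hxX⟩ => ⟨E.inv_mem hx, X.neg_mem hxX⟩ }
  have hPE : P ≤ E := fun x hx => hx.1
  have hUP : U ≤ P := fun x hx => ⟨hL.le hx, by
    rw [(QuotientGroup.eq_one_iff _).2 (show (⟨x, hL.le hx⟩ : E) ∈ U.subgroupOf E from hx)]
    exact X.zero_mem⟩
  haveI hPn : P.Normal := ⟨fun x ⟨hx, hxX⟩ a => ⟨‹E.Normal›.conj_mem x hx a, by
    have := hX a _ hxX
    rw [addRep_apply] at this
    exact this⟩⟩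
  set Q := E ⊓ centralizer (P : Set A) with hQ
  haveI : Q.Normal := by rw [hQ]; infer_instance
  have hUQ : U ≤ Q := fun u hu => ⟨hL.le hu, mem_centralizer_iff.2 fun x hx =>
    (hL.commute hu (hPE hx)).symm⟩
  have hPQ : P ⊓ Q ≤ U := by
    refine h.max _ inferInstance ?_ (le_inf hUP hUQ)
    intro x hx y hy
    exact (mem_centralizer_iff.1 hy.2.2 x hx.1)
  have hsup : E ≤ P ⊔ Q := by
    have h1 := hL.relIndex_perp_le hUP hPE
    have h2 : U.relIndex P = Q.relIndex (P ⊔ Q) := by
      rw [relIndex_sup_right, ← inf_relIndex_right Q P, inf_comm Q P,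
        le_antisymm hPQ (le_inf hUP hUQ)]
    have h3 := relIndex_mul_relIndex Q (P ⊔ Q) E le_sup_right (sup_le hPE inf_le_left)
    rw [h2, ← h3] at h1
    have hpos : 0 < Q.relIndex (P ⊔ Q) := Nat.pos_of_ne_zero FiniteIndex.index_ne_zero
    have h4 : (P ⊔ Q).relIndex E ≤ 1 :=
      Nat.le_of_mul_le_mul_left (by rw [mul_one]; exact h1) hpos
    have h5 : 0 < (P ⊔ Q).relIndex E := Nat.pos_of_ne_zero FiniteIndex.index_ne_zero
    exact relIndex_eq_one.1 (by omega)
  let D : AddSubgroup (Additive (E ⧸ U.subgroupOf E)) :=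
    Subgroup.toAddSubgroup ((Q.subgroupOf E).map (QuotientGroup.mk' _))
  refine ⟨D, ?_, ?_, ?_⟩
  · rintro a v ⟨x, hx, hxv⟩
    refine ⟨MulAut.conjNormal a x, ?_, ?_⟩
    · exact Subgroup.Normal.conj_mem ‹Q.Normal› _ hx a
    · rw [addRep_apply]
      show _ = hL.act a v.toMul
      rw [← show ((x : E) : E ⧸ U.subgroupOf E) = v.toMul from hxv]
      rfl
  · rw [eq_bot_iff]
    rintro v ⟨hvX, x, hx, hxv⟩
    have hxP : (x : A) ∈ P := ⟨x.2, by
      rw [show ((⟨(x : A), x.2⟩ : E) : E ⧸ U.subgroupOf E) = v.toMul from hxv]; exact hvX⟩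
    have hxU : (x : A) ∈ U := hPQ ⟨hxP, hx⟩
    have : v.toMul = 1 := hxv.symm.trans ((QuotientGroup.eq_one_iff x).2 hxU)
    exact AddSubgroup.mem_bot.2 (congrArg Additive.ofMul this)
  · rw [eq_top_iff]
    intro v _
    obtain ⟨z, hz⟩ := QuotientGroup.mk_surjective v.toMul
    obtain ⟨p, hp, q, hq, hpq⟩ := mem_sup_of_normal_left.1 (hsup z.2)
    refine AddSubgroup.mem_sup.2 ⟨Additive.ofMul ((⟨p, hPE hp⟩ : E) : E ⧸ U.subgroupOf E), hp.2,
      Additive.ofMul ((⟨q, hq.1⟩ : E) : E ⧸ U.subgroupOf E), ⟨⟨q, hq.1⟩, hq, rfl⟩, ?_⟩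
    rw [← ofMul_mul, ← QuotientGroup.mk_mul, show (⟨p, hPE hp⟩ * ⟨q, hq.1⟩ : E) = z from Subtype.ext hpq,
      hz]
    rfl

/-- No element centralising the scalars induces an automorphism of order thirteen on a layer of
order `81`. -/
theorem ne_thirteen (h : Quasi ρ U) (hL : Layer U E) [U.Normal] [E.Normal]
    [(U.subgroupOf E).Normal] [IsCyclic U] (h81 : Nat.card (E ⧸ U.subgroupOf E) = 81)
    {g : A} (hg : g ∈ centralizer (U : Set A)) (ho : orderOf (hL.act g) = 13) : False := by
  letI : CommGroup (E ⧸ U.subgroupOf E) :=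
    { (inferInstance : Group (E ⧸ U.subgroupOf E)) with mul_comm := hL.quot_comm }
  let W := E ⧸ U.subgroupOf E
  set φ := hL.act g with hφ
  let ψ : W →* W :=
    { toFun := fun w => φ w / w
      map_one' := by simp
      map_mul' := fun v w => by rw [map_mul, mul_div_mul_comm] }
  -- the fixed points
  have hmod : Nat.card W ≡ Nat.card ψ.ker [MOD 13] := by
    haveI : Fact (Nat.Prime 13) := ⟨by norm_num⟩
    have hp : IsPGroup 13 (zpowers φ) :=
      IsPGroup.of_card (n := 1) (by rw [Nat.card_zpowers, ho, pow_one])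
    letI : MulAction (zpowers φ) W := MulAction.compHom W (zpowers φ).subtype
    have h1 := hp.card_modEq_card_fixedPoints W
    have e : Nat.card (MulAction.fixedPoints (zpowers φ) W) = Nat.card ψ.ker :=
      Nat.card_congr (Equiv.subtypeEquivRight fun w => ?_)
    · rwa [e] at h1
    show (∀ x : zpowers φ, (x : MulAut W) w = w) ↔ φ w / w = 1
    rw [div_eq_one]
    refine ⟨fun hh => hh ⟨φ, mem_zpowers φ⟩, fun hh x => ?_⟩
    let S : Subgroup (MulAut W) := MulAction.stabilizer (MulAut W) w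
    have : zpowers φ ≤ S := zpowers_le.2 (MulAction.mem_stabilizer_iff.2 hh)
    exact MulAction.mem_stabilizer_iff.1 (this x.2)
  have hkerdvd : Nat.card ψ.ker ∣ 81 := h81 ▸ Subgroup.card_subgroup_dvd_card ψ.ker
  have hne81 : Nat.card ψ.ker ≠ 81 := fun e => by
    have htop : ψ.ker = ⊤ := Subgroup.eq_top_of_card_eq _ (e.trans h81.symm)
    have : φ = 1 := by
      ext w
      have hw : w ∈ ψ.ker := htop ▸ mem_top w
      exact div_eq_one.1 hw
    rw [this, orderOf_one] at ho
    omega
  have hk3 : Nat.card ψ.ker = 3 := by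
    obtain ⟨j, hj, e⟩ := (Nat.dvd_prime_pow Nat.prime_three).1 (show Nat.card ψ.ker ∣ 3 ^ 4 by
      simpa using hkerdvd)
    rw [h81, e] at hmod
    rw [e] at hne81
    rw [e]
    interval_cases j <;> simp_all [Nat.ModEq]
  have hrange : Nat.card ψ.range = 27 := by
    have := ψ.ker.card_mul_index
    rw [index_ker, hk3, h81] at this
    omega
  -- a fixed element commutes with all the elements moved
  obtain ⟨f, hfne⟩ : ∃ f : ψ.ker, f ≠ 1 := by
    haveI : Nontrivial ψ.ker := Finite.one_lt_card_iff_nontrivial.1 (by omega)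
    exact exists_ne 1
  obtain ⟨x, hx⟩ := QuotientGroup.mk_surjective (f : W)
  have hxU : (x : A) ∉ U := fun hh => hfne (Subtype.ext (hx.symm.trans
    ((QuotientGroup.eq_one_iff x).2 hh)))
  let F : Subgroup W := ((E ⊓ centralizer {(x : A)}).subgroupOf E).map (QuotientGroup.mk' _)
  have hgx : ⁅g, (x : A)⁆ ∈ U := (hL.act_fix_iff g x).1 (by
    rw [hx]; exact div_eq_one.1 f.2)
  have hrangeF : ψ.range ≤ F := by
    rintro _ ⟨w, rfl⟩
    obtain ⟨y, rfl⟩ := QuotientGroup.mk_surjective w
    refine ⟨MulAut.conjNormal g y / y, ⟨(MulAut.conjNormal g y / y).2, ?_⟩, ?_⟩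
    · show ((MulAut.conjNormal g y / y : E) : A) ∈ centralizer {(x : A)}
      rw [mem_centralizer_iff]
      rintro _ rfl
      show (x : A) * (g * y * g⁻¹ / y) = g * y * g⁻¹ / y * x
      rw [div_eq_mul_inv]
      set c := ⁅(x : A), (y : A)⁆ with hc
      have hcU : c ∈ U := hL.comm x x.2 y y.2
      have hgc : g * c = c * g := (mem_centralizer_iff.1 hg c hcU).symm
      set v := ⁅g, (x : A)⁆ with hv
      have hvy : v * (g * (y : A) * g⁻¹) = g * (y : A) * g⁻¹ * v :=
        hL.commute hgx (‹E.Normal›.conj_mem _ y.2 g)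
      have h1 : (x : A) * (g * y * g⁻¹) * (x : A)⁻¹ = c * (g * y * g⁻¹) := by
        calc (x : A) * (g * y * g⁻¹) * (x : A)⁻¹
            = v⁻¹ * (g * ((x : A) * y * (x : A)⁻¹) * g⁻¹) * v := by
              rw [hv, commutatorElement_def]; group
          _ = v⁻¹ * (g * (c * y) * g⁻¹) * v := by rw [hc, commutatorElement_def]; group
          _ = v⁻¹ * (c * ((g * y * g⁻¹) * v)) := by rw [← mul_assoc g c, hgc]; group
          _ = v⁻¹ * (c * (v * (g * y * g⁻¹))) := by rw [hvy]
          _ = c * (g * y * g⁻¹) := by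
              rw [← mul_assoc c v, h.comm c hcU v hgx]; group
      have h2 : (x : A) * (y : A) * (x : A)⁻¹ = c * y := by
        rw [hc, commutatorElement_def]; group
      have h3 : (x : A) * (g * y * g⁻¹ * (y : A)⁻¹) * (x : A)⁻¹ = g * y * g⁻¹ * (y : A)⁻¹ := by
        calc (x : A) * (g * y * g⁻¹ * (y : A)⁻¹) * (x : A)⁻¹
            = ((x : A) * (g * y * g⁻¹) * (x : A)⁻¹) * ((x : A) * y * (x : A)⁻¹)⁻¹ := by group
          _ = c * (g * y * g⁻¹) * (c * y)⁻¹ := by rw [h1, h2]
          _ = (c * (g * y * g⁻¹ * (y : A)⁻¹)) * c⁻¹ := by group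
          _ = _ := by
              rw [hL.commute hcU (E.mul_mem (‹E.Normal›.conj_mem _ y.2 g) (E.inv_mem y.2))]
              group
      exact mul_inv_eq_iff_eq_mul.1 h3
    · show ((MulAut.conjNormal g y / y : E) : W) = φ (y : W) / y
      rw [QuotientGroup.mk_div]
      rfl
  have hFtop : F ≠ ⊤ := by
    intro e
    refine hxU (hL.center_le ⟨x.2, mem_centralizer_iff.2 fun y hy => ?_⟩)
    have : ((⟨y, hy⟩ : E) : W) ∈ F := e ▸ mem_top _
    obtain ⟨z, hz, hzy⟩ := this
    have hd : (z : A)⁻¹ * y ∈ U := mem_subgroupOf.1 (QuotientGroup.eq.1 hzy)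
    have e1 : (x : A) * z = z * x := mem_centralizer_iff.1 hz.2 x rfl
    have e2 := hL.commute hd x.2
    calc y * (x : A) = (z : A) * (((z : A)⁻¹ * y) * x) := by group
      _ = (z : A) * ((x : A) * ((z : A)⁻¹ * y)) := by rw [e2]
      _ = ((z : A) * x) * ((z : A)⁻¹ * y) := by group
      _ = ((x : A) * z) * ((z : A)⁻¹ * y) := by rw [e1]
      _ = _ := by group
  have hF27 : F = ψ.range := by
    symm
    refine Subgroup.eq_of_le_of_card_ge hrangeF ?_
    rw [hrange]
    have h1 : Nat.card F ∣ 81 := h81 ▸ Subgroup.card_subgroup_dvd_card F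
    have h2 : Nat.card F ≠ 81 := fun e => hFtop (Subgroup.eq_top_of_card_eq _ (e.trans h81.symm))
    obtain ⟨j, hj, e⟩ := (Nat.dvd_prime_pow Nat.prime_three).1 (show Nat.card F ∣ 3 ^ 4 by
      simpa using h1)
    rw [e] at h2 ⊢
    interval_cases j <;> simp_all
  have hfF : (f : W) ∈ ψ.range := by
    rw [← hF27, ← hx]
    exact ⟨x, ⟨x.2, mem_centralizer_iff.2 fun y hy => by
      rw [Set.mem_singleton_iff.1 hy]; rfl⟩, rfl⟩
  obtain ⟨w, hw⟩ := hfF
  have hff : φ (f : W) = f := div_eq_one.1 f.2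
  have hpow : ∀ i, (φ ^ i) w = (f : W) ^ i * w := by
    intro i
    induction i with
    | zero => simp
    | succ i ih =>
      rw [pow_succ', MulAut.mul_apply, ih, map_mul, map_pow, hff, pow_succ, mul_assoc]
      congr 1
      rw [← hw]
      show φ w = φ w / w * w
      rw [div_mul_cancel]
  have h13 : (f : W) ^ 13 = 1 := by
    have := hpow 13
    rw [← ho, pow_orderOf_eq_one, MulAut.one_apply, ho] at this
    exact right_eq_mul.1 this
  have hd : orderOf (f : W) ∣ 81 := h81 ▸ orderOf_dvd_natCard _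
  have := Nat.dvd_gcd (orderOf_dvd_of_pow_eq_one h13) hd
  norm_num at this
  exact hfne this

end CfsgLib.OddBase
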