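import Mathlib

/-!
The numerical inequalities.
-/

set_option autoImplicit false

namespace CfsgLib.OddBase.Arith

theorem growth : ∀ e : ℕ, 27 ≤ e → e ^ 18 * 4 ^ 3 ≤ 4 ^ (2 * e) := by
  intro e he
  induction e, he using Nat.le_induction with
  | base => norm_num
  | succ n hn ih =>
    have h1 : ((n + 1) * 27) ^ 18 ≤ (28 * n) ^ 18 := Nat.pow_le_pow_left (by omega) _
    rw [mul_pow, mul_pow] at h1
    have h2 : (28 : ℕ) ^ 18 ≤ 16 * 27 ^ 18 := by norm_num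
    have h3 : (n + 1) ^ 18 * 27 ^ 18 ≤ (16 * n ^ 18) * 27 ^ 18 := by
      calc (n + 1) ^ 18 * 27 ^ 18 ≤ 28 ^ 18 * n ^ 18 := h1
        _ ≤ (16 * 27 ^ 18) * n ^ 18 := Nat.mul_le_mul_right _ h2
        _ = _ := by ring
    have h4 := Nat.le_of_mul_le_mul_right h3 (by norm_num)
    calc (n + 1) ^ 18 * 4 ^ 3 ≤ 16 * n ^ 18 * 4 ^ 3 := Nat.mul_le_mul_right _ h4
      _ = 16 * (n ^ 18 * 4 ^ 3) := by ring
      _ ≤ 16 * 4 ^ (2 * n) := Nat.mul_le_mul_left _ ih
      _ = 4 ^ (2 * (n + 1)) := by rw [show 2 * (n + 1) = 2 * n + 2 by ring, pow_add]; ring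

/-- If `K ≤ m ^ (2e-3)` and `m ≤ q` then `q ^ 3 K ≤ q ^ (2e)`. -/
theorem lift {q m e K : ℕ} (he : 2 ≤ e) (hm : m ≤ q) (hK : K ≤ m ^ (2 * e - 3)) :
    q ^ 3 * K ≤ q ^ (2 * e) := by
  rw [show 2 * e = 3 + (2 * e - 3) by omega, pow_add]
  exact Nat.mul_le_mul_left _ (hK.trans (Nat.pow_le_pow_left hm _))

theorem six (q : ℕ) (h : IsPrimePow q) : q ≠ 6 := by
  rintro rfl
  obtain ⟨p, k, hp, hk, e⟩ := h
  have h2 := Nat.Prime.dvd_of_dvd_pow (n := k) Nat.prime_two (e ▸ (by norm_num : (2 : ℕ) ∣ 6))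
  have h3 := Nat.Prime.dvd_of_dvd_pow (n := k) Nat.prime_three (e ▸ (by norm_num : (3 : ℕ) ∣ 6))
  have hp' := hp.nat_prime
  have := (Nat.prime_dvd_prime_iff_eq Nat.prime_two hp').1 h2
  have := (Nat.prime_dvd_prime_iff_eq Nat.prime_three hp').1 h3
  omega

/-- The main inequality: `(u e² s) ^ 3 ≤ q ^ (2l)`. -/
theorem main {e l q u s : ℕ} (he : Odd e) (he5 : 5 ≤ e) (hel : e ≤ l) (hq : 4 ≤ q) (hq6 : q ≠ 6)
    (hu : u ≤ q) (hdvd : ∀ r : ℕ, r.Prime → r ∣ e → r < q)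
    (hs : s ≤ e ^ 4) (h5 : e = 5 → s ≤ 3) (h7 : e = 7 → s ≤ 9) (h9 : e = 9 → s ≤ 5) :
    (u * e ^ 2 * s) ^ 3 ≤ q ^ (2 * l) := by
  refine le_trans ?_ (Nat.pow_le_pow_right (by omega) (show 2 * e ≤ 2 * l by omega))
  have key : ∀ K m, e ^ 2 * s ≤ K → m ≤ q → K ^ 3 ≤ m ^ (2 * e - 3) →
      (u * e ^ 2 * s) ^ 3 ≤ q ^ (2 * e) := by
    intro K m hK hm hKm
    rw [mul_assoc, mul_pow]
    exact le_trans (Nat.mul_le_mul (Nat.pow_le_pow_left hu 3) (Nat.pow_le_pow_left hK 3))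
      (lift (by omega) hm hKm)
  rcases eq_or_ne e 5 with rfl | h5'
  · exact key 75 7 (by have := h5 rfl; omega) (by
      have := hdvd 5 (by norm_num) dvd_rfl; omega) (by norm_num)
  rcases eq_or_ne e 7 with rfl | h7'
  · exact key 441 8 (by have := h7 rfl; omega) (by
      have := hdvd 7 (by norm_num) dvd_rfl; omega) (by norm_num)
  rcases eq_or_ne e 9 with rfl | h9'
  · exact key 405 4 (by have := h9 rfl; omega) hq (by norm_num)
  have hbig : e ^ 2 * s ≤ e ^ 6 := by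
    rw [show e ^ 6 = e ^ 2 * e ^ 4 by ring]
    exact Nat.mul_le_mul_left _ hs
  rcases Nat.lt_or_ge e 27 with hlt | hge
  · obtain ⟨k, rfl⟩ := he
    have : 5 ≤ k ∧ k ≤ 12 := by omega
    obtain ⟨hk1, hk2⟩ := this
    interval_cases k
    · exact key _ 12 hbig (hdvd 11 (by norm_num) (by norm_num)) (by norm_num)
    · exact key _ 14 hbig (hdvd 13 (by norm_num) (by norm_num)) (by norm_num)
    · exact key _ 7 hbig (by have := hdvd 5 (by norm_num) (by norm_num); omega) (by norm_num)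
    · exact key _ 18 hbig (hdvd 17 (by norm_num) (by norm_num)) (by norm_num)
    · exact key _ 20 hbig (hdvd 19 (by norm_num) (by norm_num)) (by norm_num)
    · exact key _ 8 hbig (hdvd 7 (by norm_num) (by norm_num)) (by norm_num)
    · exact key _ 24 hbig (hdvd 23 (by norm_num) (by norm_num)) (by norm_num)
    · exact key _ 7 hbig (by have := hdvd 5 (by norm_num) (by norm_num); omega) (by norm_num)
  · refine key _ 4 hbig hq ?_
    have h := growth e hge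
    rw [show 2 * e = (2 * e - 3) + 3 by omega, pow_add] at h
    have := Nat.le_of_mul_le_mul_right h (by norm_num)
    rw [← pow_mul]
    exact this

end CfsgLib.OddBase.Arith
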