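import Cfsg.Agent.Lib.OddBase.Count
import Cfsg.Agent.Lib.OddBase.Arith

/-!
Two-vector bases for completely reducible actions of groups of odd order.
-/

set_option autoImplicit false
set_option linter.style.haveILetI false

open Subgroup
open scoped commutatorElement

namespace CfsgLib.OddBase

universe u

set_option maxHeartbeats 1000000 in
/-- The bounds on the group induced on the layer modulo the scalars by the centraliser of the
scalars. -/
theorem layer_image_bound (hFT : FTCons.OddSolvable.{u}) {A : Type u} [Group A] [Finite A]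
    (hA : Odd (Nat.card A)) {V : Type u} [AddCommGroup V] [Finite V] [Nontrivial V]
    {ρ : A →* AddMonoid.End V} {U E : Subgroup A} (h : Quasi ρ U) (hL : Layer U E)
    [U.Normal] [E.Normal] [(U.subgroupOf E).Normal] [IsCyclic U]
    (hsmall : SmallBased.{u} (Nat.card V)) (hT : U.relIndex E < Nat.card V) {e : ℕ}
    (he : U.relIndex E = e ^ 2) :
    Nat.card ((centralizer (U : Set A)).map hL.act) ≤ e ^ 4 ∧
    (e = 3 → Nat.card ((centralizer (U : Set A)).map hL.act) = 1) ∧
    (e = 5 → Nat.card ((centralizer (U : Set A)).map hL.act) ≤ 3) ∧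
    (e = 7 → Nat.card ((centralizer (U : Set A)).map hL.act) ≤ 9) ∧
    (e = 9 → Nat.card ((centralizer (U : Set A)).map hL.act) ≤ 5) := by
  letI : CommGroup (E ⧸ U.subgroupOf E) :=
    { (inferInstance : Group (E ⧸ U.subgroupOf E)) with mul_comm := hL.quot_comm }
  set φ := hL.act with hφdef
  set C := centralizer (U : Set A) with hC
  set S := C.map φ with hS
  have hcr : CR (addRep φ) := act_cr h hL
  have hW : Nat.card (E ⧸ U.subgroupOf E) = e ^ 2 := he
  have hSodd : Odd (Nat.card S) := hA.of_dvd_nat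
    ((Subgroup.card_dvd_of_surjective (φ.subgroupMap C) (φ.subgroupMap_surjective C)).trans
      (Subgroup.card_subgroup_dvd_card C))
  haveI : Finite S := Finite.of_injective _ Subtype.val_injective
  haveI := hFT S hSodd
  -- no normal subgroups of the exceptional prime
  have hno : ∀ (r k : ℕ), r.Prime → e ^ 2 = r ^ k → ∀ P : Subgroup S, P.Normal → IsPGroup r P →
      P = ⊥ := by
    intro r k hr hk P hPn hPp
    haveI : Fact r.Prime := ⟨hr⟩
    refine le_bot_iff.1 ((CfsgLib.PCore.le_pCore hPn hPp).trans (le_bot_iff.2 ?_))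
    let R : Subgroup φ.range := ((C.map φ.rangeRestrict) : Subgroup φ.range)
    haveI : R.Normal := Subgroup.Normal.map (inferInstanceAs C.Normal) _ φ.rangeRestrict_surjective
    let Q : Subgroup A := ((Cfsg.pCore r R).map R.subtype).comap φ.rangeRestrict
    haveI : Q.Normal := inferInstance
    have hQp : IsPGroup r (Q.map φ) := by
      have h1 : IsPGroup r (((Cfsg.pCore r R).map R.subtype).map φ.range.subtype) :=
        ((CfsgLib.PCore.pCore_isPGroup).map R.subtype).map φ.range.subtype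
      refine h1.to_le ?_
      rintro _ ⟨a, ha, rfl⟩
      exact ⟨φ.rangeRestrict a, ha, rfl⟩
    have htriv := eq_bot_of_normal_pGroup (IsPGroup.of_card (hW.trans hk)) φ hcr Q hQp
    have hRbot : Cfsg.pCore r R = ⊥ := by
      rw [eq_bot_iff]
      intro x hx
      obtain ⟨a, ha⟩ := φ.rangeRestrict_surjective (x : φ.range)
      have : φ a = 1 := htriv a ⟨x, hx, ha.symm⟩
      refine mem_bot.2 (Subtype.ext (ha.symm.trans ?_))
      exact Subtype.ext this
    -- transport to `S`
    have hle : S ≤ φ.range := by rw [hS]; exact map_le_range φ C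
    have hmap : R.map φ.range.subtype = S := by
      rw [hS, Subgroup.map_map]; rfl
    refine CfsgLib.PCore.pCore_eq_bot_of_equiv
      ((R.equivMapOfInjective φ.range.subtype Subtype.val_injective).trans
        (MulEquiv.subgroupCongr hmap)) hRbot
  have hdiv : ∀ (r k : ℕ), r.Prime → e ^ 2 = r ^ k →
      Nat.card S ∣ ∏ i : Fin k, (r ^ k - r ^ (i : ℕ)) := by
    intro r k hr hk
    haveI : Fact r.Prime := ⟨hr⟩
    exact card_dvd_aut (hW.trans hk) (pow_eq_one_of_CR (hW.trans hk) φ hcr) S.subtype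
      Subtype.val_injective
  have hcop : ∀ j, (2 ^ j).Coprime (Nat.card S) := fun j =>
    (Nat.coprime_two_left.2 hSodd).pow_left j
  refine ⟨?_, ?_, ?_, ?_, ?_⟩
  · obtain ⟨⟨v, w⟩, hvw⟩ := hsmall A (Additive (E ⧸ U.subgroupOf E)) (addRep φ) hA
      (by rw [Nat.card_congr (Additive.toMul (α := E ⧸ U.subgroupOf E))]; exact hT) hcr
    refine (Nat.card_le_card_of_injective
      (fun s : S => ((Additive.ofMul (s.1 v.toMul) : Additive (E ⧸ U.subgroupOf E)),
        (Additive.ofMul (s.1 w.toMul) : Additive (E ⧸ U.subgroupOf E)))) ?_).trans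
      (le_of_eq (by
        rw [Nat.card_prod, Nat.card_congr (Additive.toMul (α := E ⧸ U.subgroupOf E)), hW]; ring))
    rintro ⟨_, a, ha, rfl⟩ ⟨_, b, hb, rfl⟩ hab
    apply Subtype.ext
    simp only [Prod.mk.injEq] at hab
    have hfix : ∀ x, φ a x = φ b x →
        addRep φ (b⁻¹ * a) (Additive.ofMul x) = Additive.ofMul x := by
      intro x hx
      rw [addRep_apply, map_mul, MulAut.mul_apply]
      show Additive.ofMul (φ b⁻¹ (φ a x)) = _
      rw [hx, map_inv, MulAut.inv_apply_self]
    have h1 := hvw (b⁻¹ * a) (hfix _ (congrArg Additive.toMul hab.1))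
      (hfix _ (congrArg Additive.toMul hab.2))
    rw [addRep_eq_one, map_mul, map_inv, inv_mul_eq_one] at h1
    exact h1.symm
  · rintro rfl
    have h1 := hdiv 3 2 Nat.prime_three rfl
    simp [Fin.prod_univ_two] at h1
    have h2 : Nat.card S ∣ 3 ^ 1 * 2 :=
      (hcop 4).symm.dvd_of_dvd_mul_left h1 |>.trans (Dvd.intro 2 rfl)
    haveI : Fact (Nat.Prime 2) := ⟨Nat.prime_two⟩
    haveI : Fact (Nat.Prime 3) := ⟨Nat.prime_three⟩
    have h3 := card_dvd_of_no_pCore h2 (hno 3 2 Nat.prime_three rfl)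
    norm_num at h3
    rcases (Nat.dvd_prime Nat.prime_two).1 h3 with e1 | e1
    · exact e1
    · rw [e1] at hSodd
      exact absurd hSodd (by decide)
  · rintro rfl
    have h1 := hdiv 5 2 (by norm_num) rfl
    simp [Fin.prod_univ_two] at h1
    have h2 : Nat.card S ∣ 5 ^ 1 * 3 := (hcop 5).symm.dvd_of_dvd_mul_left h1
    haveI : Fact (Nat.Prime 3) := ⟨Nat.prime_three⟩
    haveI : Fact (Nat.Prime 5) := ⟨by norm_num⟩
    have h3 := card_dvd_of_no_pCore h2 (hno 5 2 (by norm_num) rfl)
    exact Nat.le_of_dvd (by norm_num) ((hcop 1).symm.dvd_of_dvd_mul_left (by simpa using h3))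
  · rintro rfl
    have h1 := hdiv 7 2 (by norm_num) rfl
    simp [Fin.prod_univ_two] at h1
    have h2 : Nat.card S ∣ 63 := (hcop 5).symm.dvd_of_dvd_mul_left h1
    haveI : Fact (Nat.Prime 7) := ⟨by norm_num⟩
    have h7 : ¬ 7 ∣ Nat.card S := by
      intro h7
      obtain ⟨P⟩ : Nonempty (Sylow 7 S) := inferInstance
      have hn : Nat.card (Sylow 7 S) = 1 := by
        have hd : Nat.card (Sylow 7 S) ∣ 63 := (P.card_dvd_index.trans
          (Subgroup.index_dvd_card _)).trans h2
        have hnd : ¬ 7 ∣ Nat.card (Sylow 7 S) := not_dvd_card_sylow 7 S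
        have hmod := card_sylow_modEq_one 7 S
        have : Nat.card (Sylow 7 S) ∣ 9 :=
          ((Nat.Prime.coprime_iff_not_dvd (by norm_num)).2 hnd).symm.dvd_of_dvd_mul_left
            (show Nat.card (Sylow 7 S) ∣ 7 * 9 from hd)
        have hle := Nat.le_of_dvd (by norm_num) this
        interval_cases hh : Nat.card (Sylow 7 S) <;> simp_all [Nat.ModEq]
      have hPn : (P : Subgroup S).Normal := by
        haveI := (Nat.card_eq_one_iff_unique.1 hn).1
        exact P.normal_of_subsingleton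
      have hb := hno 7 2 (by norm_num) rfl _ hPn P.2
      have := P.dvd_card_of_dvd_card h7
      rw [hb, Subgroup.card_bot] at this
      norm_num at this
    exact Nat.le_of_dvd (by norm_num)
      (((Nat.Prime.coprime_iff_not_dvd (by norm_num)).2 h7).symm.dvd_of_dvd_mul_left
        (show Nat.card S ∣ 7 * 9 from h2))
  · rintro rfl
    have h1 := hdiv 3 4 Nat.prime_three rfl
    simp [Fin.prod_univ_four] at h1
    haveI : Fact (Nat.Prime 3) := ⟨Nat.prime_three⟩
    haveI : Fact (Nat.Prime 5) := ⟨by norm_num⟩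
    haveI : Fact (Nat.Prime 13) := ⟨by norm_num⟩
    have h2 : Nat.card S ∣ 47385 := (hcop 9).symm.dvd_of_dvd_mul_left h1
    have h13 : ¬ 13 ∣ Nat.card S := by
      intro hd
      obtain ⟨⟨_, g, hg, rfl⟩, ho⟩ := exists_prime_orderOf_dvd_card' 13 hd
      refine ne_thirteen h hL (by simpa using hW) hg ?_
      rw [← ho, ← Subgroup.orderOf_coe]
    have h3 : Nat.card S ∣ 3 ^ 6 * 5 :=
      ((Nat.Prime.coprime_iff_not_dvd (by norm_num)).2 h13).symm.dvd_of_dvd_mul_left
        (show Nat.card S ∣ 13 * (3 ^ 6 * 5) by simpa using h2)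
    have h4 := card_dvd_of_no_pCore h3 (hno 3 4 Nat.prime_three rfl)
    exact Nat.le_of_dvd (by norm_num) ((hcop 2).symm.dvd_of_dvd_mul_left (by simpa using h4))

/-- The counting argument. -/
theorem based_of_bounds {A : Type u} [Group A] [Finite A] (hA : Odd (Nat.card A))
    {V : Type u} [AddCommGroup V] [Finite V] {ρ : A →* AddMonoid.End V}
    (hinj : Function.Injective ρ) (C : Subgroup A)
    (hin : ∀ g ∈ C, g ≠ 1 → Nat.card C * fs ρ g ^ 2 ≤ Nat.card V ^ 2)
    (hout : ∀ g ∉ C, fs ρ g ^ 2 ≤ Nat.card V)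
    (hidx : (C.index - 1) * Nat.card C ≤ Nat.card V) : Based ρ := by
  classical
  cases nonempty_fintype A
  let S : V × V → Subgroup A := fun p =>
    { carrier := {a | ρ a p.1 = p.1 ∧ ρ a p.2 = p.2}
      one_mem' := by simp [map_one]
      mul_mem' := fun {a b} ha hb => by
        constructor
        · rw [apply_mul, hb.1, ha.1]
        · rw [apply_mul, hb.2, ha.2]
      inv_mem' := fun {a} ha => by
        constructor
        · conv_lhs => rw [← ha.1]
          rw [apply_inv_apply]
        · conv_lhs => rw [← ha.2]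
          rw [apply_inv_apply] }
  have hterm : ∀ g : A, Nat.card {p : V × V // g ∈ S p} = fs ρ g ^ 2 := by
    intro g
    rw [pow_two, fs, ← Nat.card_prod]
    exact Nat.card_congr
      { toFun := fun p => (⟨p.1.1, p.2.1⟩, ⟨p.1.2, p.2.2⟩)
        invFun := fun p => ⟨(p.1.1, p.2.1), p.1.2, p.2.2⟩
        left_inv := fun _ => rfl
        right_inv := fun _ => rfl }
  suffices H : ∑ g ∈ Finset.univ.erase (1 : A), Nat.card {p : V × V // g ∈ S p} <
      2 * Nat.card (V × V) by
    obtain ⟨p, hp⟩ := exists_free hA S H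
    refine ⟨p, fun a h1 h2 => ?_⟩
    have : a ∈ S p := ⟨h1, h2⟩
    rw [hp, mem_bot] at this
    rw [this, map_one]
  simp only [hterm]
  rw [Nat.card_prod, ← pow_two, ← Finset.sum_filter_add_sum_filter_not _ (fun g => g ∈ C)]
  have hCcard : (Finset.univ.filter (fun g => g ∈ C)).card = Nat.card C := by
    rw [Nat.card_eq_fintype_card, Fintype.card_subtype]
  have h1 : Nat.card C * ∑ g ∈ (Finset.univ.erase (1 : A)).filter (fun g => g ∈ C), fs ρ g ^ 2 ≤
      (Nat.card C - 1) * Nat.card V ^ 2 := by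
    rw [Finset.mul_sum]
    refine le_trans (Finset.sum_le_card_nsmul _ _ (Nat.card V ^ 2) ?_) ?_
    · intro g hg
      simp only [Finset.mem_filter, Finset.mem_erase] at hg
      exact hin g hg.2 hg.1.1
    · rw [smul_eq_mul, Finset.filter_erase, Finset.card_erase_of_mem (by simp [C.one_mem]), hCcard]
  have h2 : ∑ g ∈ (Finset.univ.erase (1 : A)).filter (fun g => ¬ g ∈ C), fs ρ g ^ 2 ≤
      Nat.card V ^ 2 := by
    refine le_trans (Finset.sum_le_card_nsmul _ _ (Nat.card V) ?_) ?_
    · intro g hg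
      exact hout g (Finset.mem_filter.1 hg).2
    · rw [smul_eq_mul, pow_two]
      refine Nat.mul_le_mul_right _ (le_trans ?_ hidx)
      rw [Finset.filter_erase]
      refine (Finset.card_erase_le).trans ?_
      rw [Finset.filter_not, Finset.card_sdiff_of_subset (Finset.filter_subset _ _), hCcard,
        Finset.card_univ, ← Nat.card_eq_fintype_card, ← C.index_mul_card, Nat.sub_mul, one_mul]
  have hCpos : 0 < Nat.card C := Nat.card_pos
  have hVpos : 0 < Nat.card V ^ 2 := pow_pos Nat.card_pos 2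
  refine Nat.lt_of_mul_lt_mul_left (a := Nat.card C) ?_
  rw [Nat.mul_add]
  obtain ⟨c, hc⟩ := Nat.exists_eq_succ_of_ne_zero hCpos.ne'
  rw [hc] at h1 ⊢
  simp only [Nat.succ_sub_one] at h1
  nlinarith

/-- Faithful actions in which the scalars form a field. -/
theorem based_of_quasi (hFT : FTCons.OddSolvable.{u}) {A : Type u} [Group A] [Finite A]
    (hA : Odd (Nat.card A)) {V : Type u} [AddCommGroup V] [Finite V] [Nontrivial V]
    {ρ : A →* AddMonoid.End V} {U : Subgroup A} (h : Quasi ρ U)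
    (hsmall : SmallBased.{u} (Nat.card V)) : Based ρ := by
  haveI := h.normal
  set C := centralizer (U : Set A) with hC
  by_cases hCU : C ≤ U
  · exact h.based_of_centralizer_le hCU
  haveI := hFT A hA
  obtain ⟨E, hL⟩ := exists_layer h.comm h.max
  haveI := hL.normal
  haveI := hL.normal_quot
  haveI := h.isCyclic
  obtain ⟨l, hVl, hTl⟩ := exists_dim h hL
  obtain ⟨e, he⟩ := hL.exists_sq h.comm
  set q := Nat.card (scalarRing ρ U) with hq
  have hTcard : U.relIndex E = Nat.card (E ⧸ U.subgroupOf E) := rfl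
  have hTodd : Odd (U.relIndex E) := hA.of_dvd_nat
    ((Subgroup.card_quotient_dvd_card _).trans (Subgroup.card_subgroup_dvd_card E))
  have heodd : Odd e := by
    rw [he, Nat.odd_pow_iff (by norm_num : 2 ≠ 0)] at hTodd
    exact hTodd
  have hTne : U.relIndex E ≠ 1 := fun e1 => hCU (by
    have hEU : E ≤ U := relIndex_eq_one.1 e1
    intro c hc
    exact hL.cent ⟨mem_centralizer_iff.2 fun x hx => mem_centralizer_iff.1 hc x (hEU hx), hc⟩)
  have he3 : 3 ≤ e := by
    obtain ⟨k, rfl⟩ := heodd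
    rcases Nat.eq_zero_or_pos k with rfl | hk
    · exact absurd he hTne
    · omega
  have hel : e ≤ l := by
    by_contra hlt
    have := Nat.mul_le_mul (Nat.le_of_lt (not_le.1 hlt)) (Nat.le_of_lt (not_le.1 hlt))
    rw [he, pow_two] at hTl
    have h2 : l * l < e * e := Nat.mul_self_lt_mul_self (not_le.1 hlt)
    omega
  have hu_lt := h.card_lt
  have hrdvd : ∀ r : ℕ, r.Prime → r ∣ e → r < q := fun r hr hd => by
    have h1 := hL.dvd_card hr (he ▸ hd.trans (dvd_pow_self e (by norm_num : 2 ≠ 0)))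
    exact lt_of_le_of_lt (Nat.le_of_dvd Nat.card_pos h1) hu_lt
  have hq4 : 4 ≤ q := by
    obtain ⟨r, hr, hd⟩ := Nat.exists_prime_and_dvd (show e ≠ 1 by omega)
    have := hrdvd r hr hd
    have hr2 : r ≠ 2 := by
      rintro rfl
      exact (Nat.not_even_iff_odd.2 heodd) (even_iff_two_dvd.2 hd)
    have := hr.two_le
    omega
  have hq6 : q ≠ 6 := by
    refine Arith.six q ?_
    letI := h.isField.toField
    haveI : Finite (AddMonoid.End V) := Finite.of_injective _ DFunLike.coe_injective
    haveI : Finite (scalarRing ρ U) := Finite.of_injective _ Subtype.val_injective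
    haveI := Fintype.ofFinite (scalarRing ρ U)
    rw [hq, Nat.card_eq_fintype_card]
    exact Fintype.isPrimePow_card_of_field
  have hq0 : 0 < q := by omega
  have hT : U.relIndex E < Nat.card V := by
    rw [hVl]
    refine lt_of_le_of_lt hTl ?_
    have hpow : ∀ n, n * n < 4 ^ n := by
      intro n
      induction n with
      | zero => norm_num
      | succ n ih =>
        have h2n : n < 4 ^ n := Nat.lt_pow_self (by norm_num)
        rw [pow_succ]
        nlinarith
    exact lt_of_lt_of_le (hpow l) (Nat.pow_le_pow_left hq4 l)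
  obtain ⟨hs, hs3, hs5, hs7, hs9⟩ := layer_image_bound hFT hA h hL hsmall hT he
  set s := Nat.card (C.map hL.act) with hs'
  have hCcard : Nat.card C = Nat.card U * e ^ 2 * s := by
    have h1 := hL.inf_ker_act
    have hUE : Nat.card E = Nat.card U * e ^ 2 := by
      rw [← he, ← relIndex_bot_left, ← relIndex_bot_left,
        relIndex_mul_relIndex ⊥ U E bot_le hL.le]
    rw [← hUE]
    have h2 := (hL.act.domRestrict C).ker.card_mul_index
    rw [index_ker, MonoidHom.domRestrict_range] at h2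
    have h3 : (hL.act.domRestrict C).ker.map C.subtype = E := by
      refine Eq.trans ?_ h1
      ext x
      constructor
      · rintro ⟨y, hy, rfl⟩; exact ⟨y.2, hy⟩
      · rintro ⟨hx1, hx2⟩; exact ⟨⟨x, hx1⟩, hx2, rfl⟩
    have h4 : Nat.card E = Nat.card (hL.act.domRestrict C).ker :=
      (congrArg (fun K : Subgroup A => Nat.card K) h3).symm.trans
        (Subgroup.card_map_of_injective C.subtype_injective)
    rw [← h2, h4]
  have hEfix : ∀ g ∈ E, g ≠ 1 → fs ρ g ^ 3 ≤ Nat.card V := by
    intro g hg hg1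
    by_cases hgU : g ∈ U
    · rw [h.fs_eq_one hgU hg1, one_pow]; exact Nat.card_pos
    · obtain ⟨y, hy, hne⟩ := hL.exists_comm_ne_one hg hgU
      exact h.fs_cube_le hA (fun u hu => (hL.commute hu hg).symm) (fun u hu => (hL.commute hu hy).symm)
        (hL.comm g hg y hy) hne
  have hCfix : ∀ g ∈ C, g ≠ 1 → (fs ρ g ^ 2) ^ 3 ≤ Nat.card V ^ 4 := by
    intro g hg hg1
    by_cases hgU : g ∈ U
    · rw [h.fs_eq_one hgU hg1]; simp [Nat.one_le_iff_ne_zero, Nat.card_pos.ne']
    obtain ⟨y, hy, hne⟩ := hL.exists_comm_ne_one' hg hgU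
    have hb : ⁅g, y⁆ ∈ E := by
      rw [commutatorElement_def]
      exact E.mul_mem (‹E.Normal›.conj_mem y hy g) (E.inv_mem hy)
    calc (fs ρ g ^ 2) ^ 3 ≤ (Nat.card V * fs ρ ⁅g, y⁆) ^ 3 :=
          Nat.pow_le_pow_left (fs_sq_le ρ g y) 3
      _ = Nat.card V ^ 3 * fs ρ ⁅g, y⁆ ^ 3 := mul_pow _ _ _
      _ ≤ Nat.card V ^ 3 * Nat.card V := Nat.mul_le_mul_left _ (hEfix _ hb hne)
      _ = _ := by ring
  have hout : ∀ g ∉ C, fs ρ g ^ 2 ≤ Nat.card V := by
    intro g hg
    rw [hC, mem_centralizer_iff] at hg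
    push Not at hg
    obtain ⟨x, hx, hne⟩ := hg
    refine h.fs_sq_le_card (x := x) ?_ fun e1 => hne ?_
    · rw [commutatorElement_def]
      exact U.mul_mem (h.normal.conj_mem x hx g) (U.inv_mem hx)
    · exact (commutatorElement_eq_one_iff_mul_comm.1 e1).symm
  have hidx : C.index + 2 ≤ q := h.index_centralizer_le (by omega : 3 ≤ q)
  have hVq3 : q ^ 3 ≤ Nat.card V := hVl ▸ Nat.pow_le_pow_right hq0 (by omega)
  rcases Nat.eq_or_lt_of_le he3 with he3' | he5
  · subst he3'
    have hs1 := hs3 rfl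
    rw [hs1, mul_one] at hCcard
    have hCE : C ≤ E := by
      rw [← hL.inf_ker_act]
      refine le_inf le_rfl fun c hc => ?_
      have : Subsingleton (C.map hL.act) := (Nat.card_eq_one_iff_unique.1 hs1).1
      exact congrArg Subtype.val
        (Subsingleton.elim (⟨hL.act c, c, hc, rfl⟩ : C.map hL.act) 1)
    refine based_of_bounds hA h.inj C ?_ hout ?_
    · intro g hg hg1
      rw [← Nat.pow_le_pow_iff_left (show (3 : ℕ) ≠ 0 by norm_num), mul_pow]
      calc Nat.card C ^ 3 * (fs ρ g ^ 2) ^ 3 = Nat.card C ^ 3 * (fs ρ g ^ 3) ^ 2 := by ring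
        _ ≤ Nat.card V ^ 4 * Nat.card V ^ 2 := by
            refine Nat.mul_le_mul ?_ (Nat.pow_le_pow_left (hEfix g (hCE hg) hg1) 2)
            calc Nat.card C ^ 3 ≤ (q * 9) ^ 3 := by
                  refine Nat.pow_le_pow_left ?_ 3
                  rw [hCcard]; exact Nat.mul_le_mul_right _ hu_lt.le
              _ = q ^ 3 * 729 := by ring
              _ ≤ q ^ 3 * q ^ 9 := Nat.mul_le_mul_left _ (by
                  calc 729 ≤ 4 ^ 9 := by norm_num
                    _ ≤ q ^ 9 := Nat.pow_le_pow_left hq4 9)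
              _ = (q ^ 3) ^ 4 := by ring
              _ ≤ _ := Nat.pow_le_pow_left hVq3 4
        _ = (Nat.card V ^ 2) ^ 3 := by ring
    · refine le_trans ?_ hVq3
      rw [hCcard]
      obtain ⟨m, hm⟩ : ∃ m, q = m + 4 := ⟨q - 4, by omega⟩
      calc (C.index - 1) * (Nat.card U * 3 ^ 2) ≤ (m + 1) * ((m + 3) * 3 ^ 2) :=
            Nat.mul_le_mul (by omega) (Nat.mul_le_mul_right _ (by omega))
        _ ≤ q ^ 3 := by rw [hm]; nlinarith [Nat.zero_le (m ^ 3), Nat.zero_le (m ^ 2), Nat.zero_le m]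
  · have hmain := Arith.main (s := s) (u := Nat.card U) (l := l) heodd
      (by obtain ⟨k, rfl⟩ := heodd; omega) hel hq4 hq6 hu_lt.le hrdvd hs hs5 hs7 hs9
    rw [← hCcard, show q ^ (2 * l) = Nat.card V ^ 2 by rw [hVl, ← pow_mul, mul_comm 2 l]] at hmain
    refine based_of_bounds hA h.inj C ?_ hout ?_
    · intro g hg hg1
      rw [← Nat.pow_le_pow_iff_left (show (3 : ℕ) ≠ 0 by norm_num), mul_pow]
      calc Nat.card C ^ 3 * (fs ρ g ^ 2) ^ 3 ≤ Nat.card V ^ 2 * Nat.card V ^ 4 :=
            Nat.mul_le_mul hmain (hCfix g hg hg1)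
        _ = _ := by ring
    · rw [← Nat.pow_le_pow_iff_left (show (3 : ℕ) ≠ 0 by norm_num), mul_pow]
      calc (C.index - 1) ^ 3 * Nat.card C ^ 3 ≤ q ^ 3 * Nat.card V ^ 2 :=
            Nat.mul_le_mul (Nat.pow_le_pow_left (by omega) 3) hmain
        _ ≤ Nat.card V * Nat.card V ^ 2 := Nat.mul_le_mul_right _ hVq3
        _ = _ := by ring

/-- An irreducible action of a group of odd order. -/
theorem based_irr (hFT : FTCons.OddSolvable.{u}) {A : Type u} [Group A] [Finite A]
    (hA : Odd (Nat.card A)) {V : Type u} [AddCommGroup V] [Finite V]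
    (ρ : A →* AddMonoid.End V) (hirr : Irr ρ) (hsmall : SmallBased.{u} (Nat.card V)) :
    Based ρ := by
  classical
  rcases subsingleton_or_nontrivial V with hV | hV
  · exact ⟨(0, 0), fun a _ _ => AddMonoidHom.ext fun v => Subsingleton.elim _ _⟩
  -- pass to the faithful image
  haveI : Finite (AddMonoid.End V) := Finite.of_injective _ DFunLike.coe_injective
  let G := ρ.toHomUnits.range
  let σ : G →* AddMonoid.End V := (Units.coeHom _).comp G.subtype
  have hσ : Function.Injective σ := fun x y e => Subtype.ext (Units.ext e)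
  have hG : Odd (Nat.card G) := hA.of_dvd_nat (Subgroup.card_range_dvd ρ.toHomUnits)
  have hirrσ : Irr σ := fun X hX => hirr X fun a v hv => hX ⟨_, a, rfl⟩ v hv
  suffices Based σ by
    obtain ⟨p, hp⟩ := this
    exact ⟨p, fun a h1 h2 => hp ⟨_, a, rfl⟩ h1 h2⟩
  haveI : Group.IsSolvable G := hFT G hG
  let s : Set (Subgroup G) := {B | B.Normal ∧ ∀ x ∈ B, ∀ y ∈ B, x * y = y * x}
  obtain ⟨U, ⟨hUn, hUab⟩, hUmax⟩ := (Set.toFinite s).exists_maximal
    ⟨⊥, inferInstance, fun x hx y hy => by rw [mem_bot.1 hx, mem_bot.1 hy]⟩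
  haveI := hUn
  rcases injective_or_blocks hirrσ U hUab with hinj | ⟨ι, hι, hact, B, hcard⟩
  · exact based_of_quasi hFT hG
      ⟨hσ, hUn, hUab, fun B hB hBab hle => hUmax ⟨hB, hBab⟩ hle, hinj⟩ hsmall
  · exact based_of_blocks hFT hG hirrσ hsmall B hcard

/-- Every completely reducible action of a group of odd order has a base of two vectors. -/
theorem smallBased (hFT : FTCons.OddSolvable.{u}) : ∀ N, SmallBased.{u} N := by
  intro N
  induction N with
  | zero => intro B _ _ X _ _ σ _ h; omega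
  | succ N ih =>
    intro B _ _ X _ _ σ hB hX hcr
    refine based_of_irr (n := N) (fun Y _ _ τ hY hirr => ?_) X σ (by omega) hcr
    exact based_irr hFT hB τ hirr fun B' _ _ X' _ _ σ' h1 h2 h3 =>
      ih B' X' σ' h1 (by omega) h3

/-- Espuelas: two vectors with trivial common stabiliser. -/
theorem exists_pair (hFT : FTCons.OddSolvable.{u}) {A : Type u} [Group A] [Finite A]
    (hA : Odd (Nat.card A)) {V : Type u} [AddCommGroup V] [Finite V]
    (ρ : A →* AddMonoid.End V) (hcr : CR ρ) : Based ρ :=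
  smallBased hFT (Nat.card V + 1) A V ρ hA (Nat.lt_succ_self _) hcr

end CfsgLib.OddBase
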