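import Mathlib

/-!
Two-vector bases for linear actions of groups of odd order: definitions, passage from completely
reducible to irreducible actions, and two counting lemmas.
-/

set_option autoImplicit false

namespace CfsgLib.OddBase

universe u w

variable {A : Type u} [Group A] {V : Type w} [AddCommGroup V]

/-- `U` is stable under the action. -/
def Inv (ρ : A →* AddMonoid.End V) (U : AddSubgroup V) : Prop := ∀ a, ∀ v ∈ U, ρ a v ∈ U

/-- Completely reducible action. -/
def CR (ρ : A →* AddMonoid.End V) : Prop :=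
  ∀ U, Inv ρ U → ∃ W : AddSubgroup V, Inv ρ W ∧ U ⊓ W = ⊥ ∧ U ⊔ W = ⊤

/-- No invariant subgroup other than the two trivial ones. -/
def Irr (ρ : A →* AddMonoid.End V) : Prop := ∀ U, Inv ρ U → U = ⊥ ∨ U = ⊤

/-- Only operators acting trivially fix the pair. -/
def Free (ρ : A →* AddMonoid.End V) (p : V × V) : Prop :=
  ∀ a, ρ a p.1 = p.1 → ρ a p.2 = p.2 → ρ a = 1

/-- The action has a base of two vectors. -/
def Based (ρ : A →* AddMonoid.End V) : Prop := ∃ p : V × V, Free ρ p

/-- Every irreducible odd order action on fewer than `N` vectors has a base of two vectors. -/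
def SmallBased (N : ℕ) : Prop :=
  ∀ (B : Type u) [Group B] [Finite B] (X : Type u) [AddCommGroup X] [Finite X]
    (σ : B →* AddMonoid.End X), Odd (Nat.card B) → Nat.card X < N → CR σ → Based σ

theorem apply_mul (ρ : A →* AddMonoid.End V) (a b : A) (v : V) : ρ (a * b) v = ρ a (ρ b v) := by
  rw [map_mul]; rfl

theorem apply_inv_apply (ρ : A →* AddMonoid.End V) (a : A) (v : V) : ρ a⁻¹ (ρ a v) = v := by
  rw [← apply_mul, inv_mul_cancel, map_one]; rfl

theorem apply_apply_inv (ρ : A →* AddMonoid.End V) (a : A) (v : V) : ρ a (ρ a⁻¹ v) = v := by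
  rw [← apply_mul, mul_inv_cancel, map_one]; rfl

theorem apply_injective (ρ : A →* AddMonoid.End V) (a : A) : Function.Injective (ρ a) :=
  Function.LeftInverse.injective (apply_inv_apply ρ a)

theorem Irr.cr {ρ : A →* AddMonoid.End V} (h : Irr ρ) : CR ρ := by
  intro U hU
  rcases h U hU with rfl | rfl
  · exact ⟨⊤, fun _ _ _ => trivial, bot_inf_eq _, bot_sup_eq _⟩
  · exact ⟨⊥, fun a v hv => by rw [AddSubgroup.mem_bot] at hv; simp [hv], inf_bot_eq _, sup_bot_eq _⟩

/-- An operator of a group of odd order whose square acts trivially acts trivially. -/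
theorem eq_one_of_sq [Finite A] (hA : Odd (Nat.card A)) {M : Type*} [Monoid M] (φ : A →* M) {a : A}
    (h : φ a * φ a = 1) : φ a = 1 := by
  have h2 : φ a ^ 2 = 1 := by rw [pow_two, h]
  have hc : φ a ^ Nat.card A = 1 := by rw [← map_pow, pow_card_eq_one', map_one]
  have := pow_gcd_eq_one.2 ⟨h2, hc⟩
  rwa [(Nat.coprime_two_left.2 hA).gcd_eq_one, pow_one] at this

/-- A base gives two free pairs in different orbits. -/
theorem exists_two [Finite A] (hA : Odd (Nat.card A)) [Nontrivial V] {ρ : A →* AddMonoid.End V}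
    (hb : Based ρ) : ∃ p q : V × V, Free ρ p ∧ Free ρ q ∧
      ∀ a, ¬ (ρ a p.1 = q.1 ∧ ρ a p.2 = q.2) := by
  obtain ⟨⟨v, w⟩, h⟩ := hb
  rcases eq_or_ne v w with rfl | hne
  · rcases eq_or_ne v 0 with rfl | hv
    · have htriv : ∀ a, ρ a = 1 := fun a => h a (map_zero _) (map_zero _)
      obtain ⟨x, hx⟩ := exists_ne (0 : V)
      refine ⟨(0, 0), (x, x), fun a _ _ => htriv a, fun a _ _ => htriv a, fun a => ?_⟩
      rintro ⟨h1, -⟩
      exact hx (by simpa [htriv a] using h1.symm)
    · refine ⟨(v, v), (v, 0), h, fun a h1 _ => h a h1 h1, fun a => ?_⟩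
      rintro ⟨h1, h2⟩
      exact hv (h1.symm.trans h2)
  · refine ⟨(v, w), (w, v), h, fun a h1 h2 => h a h2 h1, fun a => ?_⟩
    rintro ⟨h1, h2⟩
    simp only at h1 h2
    have hsq : ρ (a * a) = 1 := h _ (by rw [apply_mul, h1, h2]) (by rw [apply_mul, h2, h1])
    have := eq_one_of_sq hA ρ (a := a) (by rw [← map_mul, hsq])
    rw [this] at h1
    exact hne h1

/-- The action on a stable subgroup. -/
def res (ρ : A →* AddMonoid.End V) (U : AddSubgroup V) (h : Inv ρ U) : A →* AddMonoid.End U where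
  toFun a := ((ρ a : V →+ V).comp U.subtype).codRestrict U fun v => h a v v.2
  map_one' := by
    ext v; show ρ 1 (v : V) = v; rw [map_one]; rfl
  map_mul' a b := by
    ext v; show ρ (a * b) (v : V) = ρ a (ρ b v); rw [apply_mul]

theorem res_apply (ρ : A →* AddMonoid.End V) (U : AddSubgroup V) (h : Inv ρ U) (a : A) (v : U) :
    (res ρ U h a v : V) = ρ a v := rfl

theorem CR.res {ρ : A →* AddMonoid.End V} (hc : CR ρ) (U : AddSubgroup V) (h : Inv ρ U) :
    CR (CfsgLib.OddBase.res ρ U h) := by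
  intro X hX
  have hXi : Inv ρ (X.map U.subtype) := by
    rintro a _ ⟨x, hx, rfl⟩
    exact ⟨_, hX a x hx, rfl⟩
  obtain ⟨W, hW, hinf, hsup⟩ := hc _ hXi
  refine ⟨W.comap U.subtype, fun a v hv => hW a _ hv, ?_, ?_⟩
  · rw [eq_bot_iff]
    rintro v ⟨hv1, hv2⟩
    have : (v : V) ∈ X.map U.subtype ⊓ W := ⟨⟨v, hv1, rfl⟩, hv2⟩
    rw [hinf, AddSubgroup.mem_bot] at this
    exact (AddSubgroup.mem_bot).2 (Subtype.ext this)
  · rw [eq_top_iff]
    intro v _
    have hv : (v : V) ∈ X.map U.subtype ⊔ W := by rw [hsup]; trivial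
    obtain ⟨_, ⟨x, hx, rfl⟩, w, hw, hxw⟩ := AddSubgroup.mem_sup.1 hv
    have hwU : w ∈ U := by
      have : w = (v : V) - x := by
        rw [← hxw]; simp
      rw [this]; exact U.sub_mem v.2 x.2
    exact AddSubgroup.mem_sup.2 ⟨x, hx, ⟨w, hwU⟩, hw, Subtype.ext hxw⟩

/-- It suffices to treat irreducible actions. -/
theorem based_of_irr [Finite A] {n : ℕ}
    (hirr : ∀ (X : Type w) [AddCommGroup X] [Finite X] (σ : A →* AddMonoid.End X),
      Nat.card X ≤ n → Irr σ → Based σ) :
    ∀ (V : Type w) [AddCommGroup V] [Finite V] (ρ : A →* AddMonoid.End V),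
      Nat.card V ≤ n → CR ρ → Based ρ := by
  suffices H : ∀ m, ∀ (V : Type w) [AddCommGroup V] [Finite V] (ρ : A →* AddMonoid.End V),
      Nat.card V = m → m ≤ n → CR ρ → Based ρ from fun V _ _ ρ hn hc => H _ V ρ rfl hn hc
  intro m
  induction m using Nat.strong_induction_on with
  | _ m IH =>
  intro V _ _ ρ hm hn hc
  by_cases hi : Irr ρ
  · exact hirr V ρ (hm ▸ hn) hi
  · simp only [Irr, not_forall] at hi
    obtain ⟨U, hU, hne⟩ := hi
    rw [not_or] at hne
    obtain ⟨W, hW, hinf, hsup⟩ := hc U hU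
    have hlt : ∀ X : AddSubgroup V, X ≠ ⊤ → Nat.card X < m := fun X hX => by
      refine lt_of_le_of_ne (hm ▸ Nat.card_le_card_of_injective _ Subtype.val_injective) fun e => ?_
      exact hX (AddSubgroup.eq_top_of_card_eq X (e.trans hm.symm))
    have hWt : W ≠ ⊤ := fun e => hne.1 (by rw [e, inf_top_eq] at hinf; exact hinf)
    obtain ⟨⟨u₁, u₂⟩, hu⟩ := IH _ (hlt U hne.2) U (res ρ U hU) rfl
      ((hlt U hne.2).le.trans hn) (hc.res U hU)
    obtain ⟨⟨w₁, w₂⟩, hw⟩ := IH _ (hlt W hWt) W (res ρ W hW) rfl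
      ((hlt W hWt).le.trans hn) (hc.res W hW)
    refine ⟨((u₁ : V) + w₁, (u₂ : V) + w₂), fun a h1 h2 => ?_⟩
    have split : ∀ (u : U) (w : W), ρ a ((u : V) + w) = (u : V) + w →
        res ρ U hU a u = u ∧ res ρ W hW a w = w := by
      intro u w h
      rw [map_add] at h
      have hmem : ρ a (u : V) - u ∈ U ⊓ W := by
        refine ⟨U.sub_mem (hU a _ u.2) u.2, ?_⟩
        have : ρ a (u : V) - u = (w : V) - ρ a w := by
          rw [sub_eq_sub_iff_add_eq_add, h, add_comm]
        rw [this]; exact W.sub_mem w.2 (hW a _ w.2)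
      rw [hinf, AddSubgroup.mem_bot, sub_eq_zero] at hmem
      rw [hmem] at h
      exact ⟨Subtype.ext hmem, Subtype.ext (add_left_cancel h)⟩
    have e1 := hu a (split u₁ w₁ h1).1 (split u₂ w₂ h2).1
    have e2 := hw a (split u₁ w₁ h1).2 (split u₂ w₂ h2).2
    ext v
    have hv : v ∈ U ⊔ W := by rw [hsup]; trivial
    obtain ⟨u, hu', w, hw', rfl⟩ := AddSubgroup.mem_sup.1 hv
    have f1 : ρ a u = u := congrArg Subtype.val (DFunLike.congr_fun e1 (⟨u, hu'⟩ : U))
    have f2 : ρ a w = w := congrArg Subtype.val (DFunLike.congr_fun e2 (⟨w, hw'⟩ : W))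
    show ρ a (u + w) = u + w
    rw [map_add, f1, f2]

/-- If every point of a finite set has a nontrivial isotropy subgroup in a group of odd order, each
point is counted at least twice among the fixed points of the nonidentity elements. -/
theorem exists_free {G : Type u} [Group G] [Fintype G] [DecidableEq G] (hG : Odd (Nat.card G))
    {Y : Type w} [Finite Y] (S : Y → Subgroup G)
    (h : ∑ g ∈ Finset.univ.erase (1 : G), Nat.card {y // g ∈ S y} < 2 * Nat.card Y) :
    ∃ y, S y = ⊥ := by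
  classical
  cases nonempty_fintype Y
  by_contra hne
  push Not at hne
  have h2 : ∀ y, 2 ≤ ((Finset.univ.erase (1 : G)).filter (· ∈ S y)).card := by
    intro y
    have hodd : Odd (Nat.card (S y)) := hG.of_dvd_nat (Subgroup.card_subgroup_dvd_card _)
    have h1 : Nat.card (S y) ≠ 1 := fun e => hne y (Subgroup.card_eq_one.1 e)
    have hcard : (Finset.univ.filter (· ∈ S y)).card = Nat.card (S y) := by
      rw [Nat.card_eq_fintype_card, Fintype.card_subtype]
    have h3 : 3 ≤ Nat.card (S y) := by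
      obtain ⟨k, hk⟩ := hodd
      omega
    rw [Finset.filter_erase, Finset.card_erase_of_mem (by simp [(S y).one_mem]), hcard]
    omega
  have hswap : ∑ g ∈ Finset.univ.erase (1 : G), Nat.card {y // g ∈ S y} =
      ∑ y : Y, ((Finset.univ.erase (1 : G)).filter (· ∈ S y)).card := by
    simp only [Nat.card_eq_fintype_card, Fintype.card_subtype, Finset.card_filter]
    exact Finset.sum_comm
  have : 2 * Nat.card Y ≤ ∑ y : Y, ((Finset.univ.erase (1 : G)).filter (· ∈ S y)).card := by
    rw [Nat.card_eq_fintype_card, ← Finset.card_univ, mul_comm, ← smul_eq_mul]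
    exact Finset.card_nsmul_le_sum _ _ _ fun y _ => h2 y
  omega

end CfsgLib.OddBase
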