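import Cfsg.Agent.Lib.OddBase.SetOrbit

/-!
Irreducible actions preserving a decomposition of the module.
-/

set_option autoImplicit false
set_option linter.style.haveILetI false

open Subgroup

namespace CfsgLib.OddBase

universe u w

variable {A : Type u} [Group A] {V : Type w} [AddCommGroup V]

/-- Orthogonal idempotents summing to the identity, permuted by the group. -/
structure Blocks (ρ : A →* AddMonoid.End V) (ι : Type*) [Fintype ι] [MulAction A ι] where
  /-- the projections -/
  π : ι → AddMonoid.End V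
  ne_zero : ∀ i, π i ≠ 0
  orth : ∀ i j, i ≠ j → π i * π j = 0
  idem : ∀ i, π i * π i = π i
  sum_eq : ∑ i, π i = 1
  equiv : ∀ a i, ρ a * π i = π (a • i) * ρ a

namespace Blocks

variable {ρ : A →* AddMonoid.End V} {ι : Type*} [Fintype ι] [MulAction A ι] (B : Blocks ρ ι)

theorem apply_equiv (a : A) (i : ι) (v : V) : ρ a (B.π i v) = B.π (a • i) (ρ a v) :=
  DFunLike.congr_fun (B.equiv a i) v

theorem sum_apply (v : V) : ∑ i, B.π i v = v := by
  have h : ∀ s : Finset ι, (∑ i ∈ s, B.π i) v = ∑ i ∈ s, B.π i v := fun s =>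
    map_sum (AddMonoidHom.eval v : (V →+ V) →+ V) (fun i => B.π i) s
  rw [← h, B.sum_eq]; rfl

include B in
theorem transitive (hirr : Irr ρ) (i j : ι) : ∃ a : A, a • i = j := by
  classical
  by_contra hcon
  push Not at hcon
  set O : Finset ι := Finset.univ.filter (fun k => ∃ a : A, a • i = k) with hO
  have hmem : ∀ (a : A) k, k ∈ O → a • k ∈ O := by
    intro a k hk
    simp only [hO, Finset.mem_filter, Finset.mem_univ, true_and] at hk ⊢
    obtain ⟨b, rfl⟩ := hk
    exact ⟨a * b, mul_smul _ _ _⟩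
  let U : AddSubgroup V :=
    { carrier := {v | ∀ k, k ∉ O → B.π k v = 0}
      zero_mem' := fun k _ => map_zero _
      add_mem' := fun {x y} hx hy k hk => by rw [map_add, hx k hk, hy k hk, add_zero]
      neg_mem' := fun {x} hx k hk => by rw [map_neg, hx k hk, neg_zero] }
  have hU : Inv ρ U := by
    intro a v hv k hk
    have h1 : a⁻¹ • k ∉ O := fun h => hk (by simpa using hmem a _ h)
    have := B.apply_equiv a (a⁻¹ • k) v
    rwa [hv _ h1, map_zero, smul_inv_smul, eq_comm] at this
  have hi : i ∈ O := by simp [hO]; exact ⟨1, one_smul _ _⟩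
  have hj : j ∉ O := by simp [hO]; exact hcon
  obtain ⟨v, hv⟩ : ∃ v, B.π i v ≠ 0 := by
    by_contra h
    push Not at h
    exact B.ne_zero i (AddMonoidHom.ext h)
  rcases hirr U hU with h | h
  · have : B.π i v ∈ U := fun k hk =>
      DFunLike.congr_fun (B.orth k i (fun e => hk (e ▸ hi))) v
    rw [h, AddSubgroup.mem_bot] at this
    exact hv this
  · refine B.ne_zero j (AddMonoidHom.ext fun x => ?_)
    have : x ∈ U := by rw [h]; trivial
    exact this j hj

/-- Coarsen a transitive decomposition along an overgroup of a point stabiliser. -/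
noncomputable def coarsen [DecidableEq ι] (hirr : Irr ρ) (i₀ : ι) (M : Subgroup A)
    [Fintype (A ⧸ M)] [DecidableEq (A ⧸ M)] (hM : MulAction.stabilizer A i₀ ≤ M) :
    Blocks ρ (A ⧸ M) := by
  classical
  let t : ι → A := fun i => (B.transitive hirr i₀ i).choose
  have ht : ∀ i, t i • i₀ = i := fun i => (B.transitive hirr i₀ i).choose_spec
  let f : ι → A ⧸ M := fun i => (t i : A ⧸ M)
  have hf : ∀ (a : A) i, f (a • i) = a • f i := by
    intro a i
    show ((t (a • i) : A) : A ⧸ M) = ((a * t i : A) : A ⧸ M)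
    rw [QuotientGroup.eq]
    refine hM ?_
    rw [MulAction.mem_stabilizer_iff, mul_smul, mul_smul, ht, inv_smul_eq_iff, ht]
  refine ⟨fun x => ∑ i ∈ Finset.univ.filter (fun i => f i = x), B.π i, ?_, ?_, ?_, ?_, ?_⟩
  · intro x h
    induction x using QuotientGroup.induction_on with
    | _ a =>
      have hmem : a • i₀ ∈ Finset.univ.filter (fun i => f i = (a : A ⧸ M)) := by
        simp only [Finset.mem_filter, Finset.mem_univ, true_and]
        rw [hf]
        show ((a * t i₀ : A) : A ⧸ M) = _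
        rw [QuotientGroup.eq]
        have : t i₀ ∈ M := hM (MulAction.mem_stabilizer_iff.2 (ht i₀))
        simpa [mul_assoc] using M.inv_mem this
      have h2 := congrArg (fun g => g * B.π (a • i₀)) h
      simp only [Finset.sum_mul, zero_mul] at h2
      rw [Finset.sum_eq_single (a • i₀) (fun j _ hj => B.orth j _ hj) (fun h => absurd hmem h),
        B.idem] at h2
      exact B.ne_zero _ h2
  · intro x y hxy
    simp only [Finset.sum_mul, Finset.mul_sum]
    refine Finset.sum_eq_zero fun i hi => Finset.sum_eq_zero fun j hj => ?_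
    simp only [Finset.mem_filter, Finset.mem_univ, true_and] at hi hj
    refine B.orth _ _ ?_
    rintro rfl
    first | exact hxy (hi.symm.trans hj) | exact hxy (hj.symm.trans hi)
  · intro x
    rw [Finset.sum_mul]
    refine Finset.sum_congr rfl fun i hi => ?_
    rw [Finset.mul_sum, Finset.sum_eq_single i (fun j _ hj => B.orth i j hj.symm)
      (fun h => absurd hi h), B.idem]
  · rw [Finset.sum_fiberwise]
    exact B.sum_eq
  · intro a x
    rw [Finset.mul_sum, Finset.sum_mul]
    refine Finset.sum_nbij' (fun i => a • i) (fun i => a⁻¹ • i) ?_ ?_ ?_ ?_ ?_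
    · intro i hi
      simp only [Finset.coe_filter, Finset.mem_filter, Finset.mem_univ, true_and, Set.mem_ofPred_eq] at hi ⊢
      rw [hf, hi]
    · intro i hi
      simp only [Finset.coe_filter, Finset.mem_filter, Finset.mem_univ, true_and, Set.mem_ofPred_eq] at hi ⊢
      rw [hf, hi, inv_smul_smul]
    · intro i _; exact inv_smul_smul _ _
    · intro i _; exact smul_inv_smul _ _
    · intro i _; exact B.equiv a i

end Blocks

section

variable {A : Type u} [Group A] [Finite A] {V : Type u} [AddCommGroup V] [Finite V]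

/-- An irreducible action with blocks indexed by a maximal subgroup. -/
theorem based_of_maximal (hFT : FTCons.OddSolvable.{u}) (hA : Odd (Nat.card A))
    {ρ : A →* AddMonoid.End V} (hirr : Irr ρ) (hsmall : SmallBased.{u} (Nat.card V))
    {M : Subgroup A} (hM : IsCoatom M) [Fintype (A ⧸ M)] (B : Blocks ρ (A ⧸ M)) : Based ρ := by
  classical
  set x₀ : A ⧸ M := ((1 : A) : A ⧸ M) with hx₀
  set V₀ : AddSubgroup V := (B.π x₀ : V →+ V).range with hV₀
  have hfix : ∀ h : M, (h : A) • x₀ = x₀ := by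
    intro h
    rw [hx₀, MulAction.Quotient.smul_coe, QuotientGroup.eq]
    simpa [smul_eq_mul] using M.inv_mem h.2
  have hinv : Inv (ρ.comp M.subtype) V₀ := by
    rintro h _ ⟨v, rfl⟩
    refine ⟨ρ h v, ?_⟩
    have := B.apply_equiv (h : A) x₀ v
    rw [hfix] at this
    exact this.symm
  have hmem₀ : ∀ v ∈ V₀, B.π x₀ v = v := by
    rintro _ ⟨v, rfl⟩
    exact DFunLike.congr_fun (B.idem x₀) v
  have hzero : ∀ v ∈ V₀, ∀ y, y ≠ x₀ → B.π y v = 0 := by
    rintro _ ⟨v, rfl⟩ y hy
    exact DFunLike.congr_fun (B.orth y x₀ hy) v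
  -- representatives
  let t : A ⧸ M → A := fun x => x.out
  have ht : ∀ x, t x • x₀ = x := by
    intro x
    rw [hx₀, MulAction.Quotient.smul_coe, smul_eq_mul, mul_one]
    exact Quotient.out_eq x
  -- irreducible on the block
  have hirr₀ : Irr (res (ρ.comp M.subtype) V₀ hinv) := by
    intro U hU
    let T : AddSubgroup V :=
      { carrier := {v | ∀ x, ∃ u ∈ U, (u : V) = ρ (t x)⁻¹ (B.π x v)}
        zero_mem' := fun x => ⟨0, U.zero_mem, by simp⟩
        add_mem' := fun {v w} hv hw x => by
          obtain ⟨a, ha, ha'⟩ := hv x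
          obtain ⟨b, hb, hb'⟩ := hw x
          exact ⟨a + b, U.add_mem ha hb, by rw [map_add, map_add, AddSubgroup.coe_add, ha', hb']⟩
        neg_mem' := fun {v} hv x => by
          obtain ⟨a, ha, ha'⟩ := hv x
          exact ⟨-a, U.neg_mem ha, by rw [map_neg, map_neg, AddSubgroup.coe_neg, ha']⟩ }
    have hT : Inv ρ T := by
      intro a v hv x
      obtain ⟨u, hu, hu'⟩ := hv (a⁻¹ • x)
      have hh : (t x)⁻¹ * a * t (a⁻¹ • x) ∈ M := by
        have h1 : ((t x)⁻¹ * a * t (a⁻¹ • x)) • x₀ = x₀ := by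
          rw [mul_smul, mul_smul, ht, smul_inv_smul, inv_smul_eq_iff, ht]
        rw [hx₀, MulAction.Quotient.smul_coe, QuotientGroup.eq, smul_eq_mul, mul_one, mul_one] at h1
        exact inv_mem_iff.1 h1
      refine ⟨res (ρ.comp M.subtype) V₀ hinv ⟨_, hh⟩ u, hU _ u hu, ?_⟩
      show ρ ((t x)⁻¹ * a * t (a⁻¹ • x)) (u : V) = _
      have e := B.apply_equiv a (a⁻¹ • x) v
      rw [smul_inv_smul] at e
      rw [apply_mul, hu', apply_apply_inv, apply_mul, e]
    rcases hirr T hT with h | h
    · left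
      rw [eq_bot_iff]
      intro u hu
      have hmem : (u : V) ∈ T := by
        intro x
        rcases eq_or_ne x x₀ with rfl | hx
        · have hh : t x₀ ∈ M := by
            have h1 := ht x₀
            rw [hx₀, MulAction.Quotient.smul_coe, QuotientGroup.eq, smul_eq_mul, mul_one, mul_one] at h1
            exact inv_mem_iff.1 h1
          refine ⟨res (ρ.comp M.subtype) V₀ hinv ⟨_, M.inv_mem hh⟩ u, hU _ u hu, ?_⟩
          rw [hmem₀ _ u.2]; rfl
        · exact ⟨0, U.zero_mem, by rw [hzero _ u.2 x hx]; simp⟩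
      rw [h, AddSubgroup.mem_bot] at hmem
      exact AddSubgroup.mem_bot.2 (Subtype.ext hmem)
    · right
      rw [eq_top_iff]
      intro v _
      have hh : (t x₀)⁻¹ ∈ M := by
        have h1 := ht x₀
        rw [hx₀, MulAction.Quotient.smul_coe, QuotientGroup.eq, smul_eq_mul, mul_one, mul_one] at h1
        exact h1
      have hv : ρ (t x₀) (v : V) ∈ T := by rw [h]; trivial
      obtain ⟨u, hu, hu'⟩ := hv x₀
      have hin : ρ (t x₀) (v : V) ∈ V₀ := hinv ⟨_, inv_mem_iff.1 hh⟩ _ v.2
      rw [hmem₀ _ hin, apply_inv_apply] at hu'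
      have : u = v := Subtype.ext hu'
      rw [← this]; exact hu
  have hVne : Nontrivial V₀ := by
    rw [AddSubgroup.nontrivial_iff_ne_bot]
    intro h
    refine B.ne_zero x₀ (AddMonoidHom.ext fun v => ?_)
    have h1 : B.π x₀ v ∈ V₀ := ⟨v, rfl⟩
    rw [h, AddSubgroup.mem_bot] at h1
    exact h1
  have hidx2 : ∃ y : A ⧸ M, y ≠ x₀ := by
    by_contra hcon
    push Not at hcon
    refine hM.1 (eq_top_iff.2 fun a _ => ?_)
    have := hcon (a : A ⧸ M)
    rw [hx₀, QuotientGroup.eq, mul_one] at this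
    exact inv_mem_iff.1 this
  have hlt0 : Nat.card V₀ < Nat.card V := by
    refine lt_of_le_of_ne (Nat.card_le_card_of_injective _ Subtype.val_injective) fun e => ?_
    obtain ⟨y, hy⟩ := hidx2
    refine B.ne_zero y (AddMonoidHom.ext fun v => ?_)
    have hv : B.π y v ∈ V₀ := (AddSubgroup.eq_top_of_card_eq V₀ e).symm ▸ trivial
    have := hzero _ hv y hy
    rw [show B.π y (B.π y v) = B.π y v from DFunLike.congr_fun (B.idem y) v] at this
    exact this
  have hidxlt : M.index < Nat.card V := by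
    have hne : ∀ x, ∃ v, B.π x v ≠ 0 := fun x => by
      by_contra h
      push Not at h
      exact B.ne_zero x (AddMonoidHom.ext h)
    choose v hv using hne
    let g : Option (A ⧸ M) → V := fun o => o.elim 0 fun x => B.π x (v x)
    have hg : Function.Injective g := by
      rintro (_ | x) (_ | y) h
      · rfl
      · exact absurd h.symm (hv y)
      · exact absurd h (hv x)
      · by_contra hne
        have h2 := congrArg (B.π x) (show B.π x (v x) = B.π y (v y) from h)
        rw [show B.π x (B.π x (v x)) = B.π x (v x) from DFunLike.congr_fun (B.idem x) _,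
          show B.π x (B.π y (v y)) = 0 from DFunLike.congr_fun (B.orth x y (by simpa using hne)) _] at h2
        exact hv x h2
    have := Nat.card_le_card_of_injective g hg
    rw [Finite.card_option] at this
    exact this
  obtain ⟨p, q, hp, hq, hpq⟩ := exists_two (hA.of_dvd_nat (Subgroup.card_subgroup_dvd_card M))
    (hsmall M V₀ _ (hA.of_dvd_nat (Subgroup.card_subgroup_dvd_card M)) hlt0 hirr₀.cr)
  obtain ⟨s, hs⟩ := exists_set hFT hsmall hA hM hidxlt
  let c : A ⧸ M → V₀ × V₀ := fun x => if x ∈ s then p else q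
  have hproj : ∀ (c : A ⧸ M → V₀) (y : A ⧸ M),
      B.π y (∑ x, ρ (t x) (c x : V)) = ρ (t y) (c y : V) := by
    intro c y
    rw [map_sum, Finset.sum_eq_single y]
    · have := B.apply_equiv (t y) x₀ (c y : V)
      rw [ht, hmem₀ _ (c y).2] at this
      exact this.symm
    · intro x _ hx
      have := B.apply_equiv (t x) x₀ (c x : V)
      rw [ht, hmem₀ _ (c x).2] at this
      rw [this]
      exact DFunLike.congr_fun (B.orth y x hx.symm) _
    · intro h; exact absurd (Finset.mem_univ y) h
  refine ⟨(∑ x, ρ (t x) ((c x).1 : V), ∑ x, ρ (t x) ((c x).2 : V)), fun a h1 h2 => ?_⟩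
  -- the element of `M` carrying colour to colour
  have hh : ∀ x, (t (a • x))⁻¹ * a * t x ∈ M := fun x => by
    have h1 : ((t (a • x))⁻¹ * a * t x) • x₀ = x₀ := by
      rw [mul_smul, mul_smul, ht, inv_smul_eq_iff, ht]
    rw [hx₀, MulAction.Quotient.smul_coe, QuotientGroup.eq, smul_eq_mul, mul_one, mul_one] at h1
    exact inv_mem_iff.1 h1
  have hstep : ∀ (f : V₀ × V₀ → V₀), ρ a (∑ x, ρ (t x) (f (c x) : V)) = ∑ x, ρ (t x) (f (c x) : V) →
      ∀ x, res (ρ.comp M.subtype) V₀ hinv ⟨_, hh x⟩ (f (c x)) = f (c (a • x)) := by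
    intro f hf x
    apply Subtype.ext
    have e := B.apply_equiv a x (∑ x, ρ (t x) (f (c x) : V))
    rw [hf, hproj (fun x => f (c x)), hproj (fun x => f (c x))] at e
    show ρ ((t (a • x))⁻¹ * a * t x) _ = _
    rw [apply_mul, apply_mul]
    show ρ _ (ρ a (ρ (t x) ((f (c x) : V₀) : V))) = _
    rw [e, apply_inv_apply]
  have e1 := hstep Prod.fst h1
  have e2 := hstep Prod.snd h2
  have hsfix : a ∈ setStab s := by
    intro x
    by_cases hx : x ∈ s <;> by_cases hax : a • x ∈ s
    · exact iff_of_true hax hx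
    · exfalso
      have a1 := e1 x; have a2 := e2 x
      simp only [c, if_pos hx, if_neg hax] at a1 a2
      exact hpq _ ⟨a1, a2⟩
    · exfalso
      have a1 := e1 x; have a2 := e2 x
      simp only [c, if_pos hax, if_neg hx] at a1 a2
      refine hpq (⟨_, hh x⟩⁻¹) ⟨?_, ?_⟩
      · rw [← a1, apply_inv_apply]
      · rw [← a2, apply_inv_apply]
    · exact iff_of_false hax hx
  have hax := hs a hsfix
  have hcfree : ∀ x, Free (res (ρ.comp M.subtype) V₀ hinv) (c x) := fun x => by
    by_cases hx : x ∈ s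
    · simp only [c, if_pos hx]; exact hp
    · simp only [c, if_neg hx]; exact hq
  refine AddMonoidHom.ext fun v => ?_
  show ρ a v = v
  conv_lhs => rw [← B.sum_apply v, map_sum]
  conv_rhs => rw [← B.sum_apply v]
  refine Finset.sum_congr rfl fun x _ => ?_
  have hw : ρ (t x)⁻¹ (B.π x v) ∈ V₀ := by
    refine ⟨ρ (t x)⁻¹ v, ?_⟩
    have := B.apply_equiv (t x)⁻¹ x v
    rw [show (t x)⁻¹ • x = x₀ from inv_smul_eq_iff.2 (ht x).symm] at this
    exact this.symm
  have h3 : res (ρ.comp M.subtype) V₀ hinv ⟨_, hh x⟩ = 1 :=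
    hcfree x _ ((e1 x).trans (by rw [hax])) ((e2 x).trans (by rw [hax]))
  have h4 : ρ ((t (a • x))⁻¹ * a * t x) (ρ (t x)⁻¹ (B.π x v)) = ρ (t x)⁻¹ (B.π x v) :=
    congrArg Subtype.val (DFunLike.congr_fun h3 (⟨_, hw⟩ : V₀))
  rw [hax, apply_mul, apply_apply_inv, apply_mul] at h4
  exact apply_injective ρ _ h4

/-- An irreducible action with a nontrivial decomposition. -/
theorem based_of_blocks (hFT : FTCons.OddSolvable.{u}) (hA : Odd (Nat.card A))
    {ρ : A →* AddMonoid.End V} (hirr : Irr ρ) (hsmall : SmallBased.{u} (Nat.card V))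
    {ι : Type u} [Fintype ι] [MulAction A ι] (B : Blocks ρ ι) (hcard : ∃ i j : ι, i ≠ j) :
    Based ρ := by
  classical
  obtain ⟨i, j, hij⟩ := hcard
  have hne : MulAction.stabilizer A i ≠ ⊤ := fun e => by
    obtain ⟨a, ha⟩ := B.transitive hirr i j
    have : a ∈ MulAction.stabilizer A i := by rw [e]; exact mem_top a
    exact hij ((MulAction.mem_stabilizer_iff.1 this).symm.trans ha)
  obtain ⟨M, hM, hle⟩ := (eq_top_or_exists_le_coatom (MulAction.stabilizer A i)).resolve_left hne
  haveI : Fintype (A ⧸ M) := Fintype.ofFinite _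
  exact based_of_maximal hFT hA hirr hsmall hM (B.coarsen hirr i M hle)

end

/-- Conjugation by `ρ a`. -/
def conjEnd (ρ : A →* AddMonoid.End V) (a : A) : AddMonoid.End V →+* AddMonoid.End V where
  toFun x := ρ a * x * ρ a⁻¹
  map_one' := by rw [mul_one, ← map_mul, mul_inv_cancel, map_one]
  map_mul' x y := by
    rw [show ρ a * x * ρ a⁻¹ * (ρ a * y * ρ a⁻¹) = ρ a * x * (ρ a⁻¹ * ρ a) * y * ρ a⁻¹ by
      simp only [mul_assoc], ← map_mul, inv_mul_cancel, map_one]
    simp only [mul_one, mul_assoc]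
  map_zero' := by simp
  map_add' x y := by simp [mul_add, add_mul]

theorem conjEnd_apply (ρ : A →* AddMonoid.End V) (a : A) (x : AddMonoid.End V) :
    conjEnd ρ a x = ρ a * x * ρ a⁻¹ := rfl

theorem conjEnd_mul (ρ : A →* AddMonoid.End V) (a b : A) (x : AddMonoid.End V) :
    conjEnd ρ (a * b) x = conjEnd ρ a (conjEnd ρ b x) := by
  rw [conjEnd_apply, conjEnd_apply, conjEnd_apply, mul_inv_rev, map_mul, map_mul]
  simp only [mul_assoc]

theorem conjEnd_one (ρ : A →* AddMonoid.End V) (x : AddMonoid.End V) : conjEnd ρ 1 x = x := by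
  simp [conjEnd_apply]

theorem mul_eq_conjEnd_mul (ρ : A →* AddMonoid.End V) (a : A) (x : AddMonoid.End V) :
    ρ a * x = conjEnd ρ a x * ρ a := by
  rw [conjEnd_apply, mul_assoc, ← map_mul, inv_mul_cancel, map_one, mul_one]

/-- The ring generated by the operators from a subgroup. -/
def scalarRing (ρ : A →* AddMonoid.End V) (U : Subgroup A) : Subring (AddMonoid.End V) :=
  Subring.closure (ρ '' (U : Set A))

theorem apply_mem_scalarRing (ρ : A →* AddMonoid.End V) {U : Subgroup A} {x : A} (hx : x ∈ U) :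
    ρ x ∈ scalarRing ρ U := Subring.subset_closure ⟨x, hx, rfl⟩

theorem scalarRing_comm (ρ : A →* AddMonoid.End V) {U : Subgroup A}
    (hU : ∀ x ∈ U, ∀ y ∈ U, x * y = y * x) {r s : AddMonoid.End V} (hr : r ∈ scalarRing ρ U)
    (hs : s ∈ scalarRing ρ U) : r * s = s * r := by
  have h1 : scalarRing ρ U ≤ Subring.centralizer (ρ '' (U : Set A)) := by
    refine Subring.closure_le.2 ?_
    rintro _ ⟨x, hx, rfl⟩ _ ⟨y, hy, rfl⟩
    rw [← map_mul, ← map_mul, hU y hy x hx]
  have h2 : scalarRing ρ U ≤ Subring.centralizer (scalarRing ρ U : Set (AddMonoid.End V)) := by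
    refine Subring.closure_le.2 ?_
    rintro _ ⟨x, hx, rfl⟩ s hs
    exact ((h1 hs) (ρ x) ⟨x, hx, rfl⟩).symm
  exact ((h2 hr) s hs).symm

theorem conjEnd_mem (ρ : A →* AddMonoid.End V) (U : Subgroup A) [U.Normal] (a : A)
    {r : AddMonoid.End V} (hr : r ∈ scalarRing ρ U) : conjEnd ρ a r ∈ scalarRing ρ U := by
  have : scalarRing ρ U ≤ (scalarRing ρ U).comap (conjEnd ρ a) := by
    refine Subring.closure_le.2 ?_
    rintro _ ⟨x, hx, rfl⟩
    show conjEnd ρ a (ρ x) ∈ scalarRing ρ U
    rw [conjEnd_apply, ← map_mul, ← map_mul]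
    exact apply_mem_scalarRing ρ (Subgroup.Normal.conj_mem ‹_› x hx a)
  exact this hr

/-- In an irreducible action a nonzero scalar of an abelian normal subgroup is injective, unless
there is a nontrivial decomposition. -/
theorem injective_or_blocks {A : Type u} [Group A] {V : Type u} [AddCommGroup V] [Finite V]
    [Nontrivial V] {ρ : A →* AddMonoid.End V} (hirr : Irr ρ) (U : Subgroup A) [U.Normal]
    (hU : ∀ x ∈ U, ∀ y ∈ U, x * y = y * x) :
    (∀ r ∈ scalarRing ρ U, r ≠ 0 → Function.Injective r) ∨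
      ∃ (ι : Type u) (_ : Fintype ι) (_ : MulAction A ι) (_ : Blocks ρ ι), ∃ i j : ι, i ≠ j := by
  classical
  by_cases hall : ∀ r ∈ scalarRing ρ U, r ≠ 0 → Function.Injective r
  · exact Or.inl hall
  right
  push Not at hall
  obtain ⟨r, hr, hr0, hrinj⟩ := hall
  haveI : Finite (AddMonoid.End V) := Finite.of_injective _ DFunLike.coe_injective
  cases nonempty_fintype (AddMonoid.End V)
  set R := scalarRing ρ U
  have hcomm : ∀ x ∈ R, ∀ y ∈ R, x * y = y * x := fun x hx y hy => scalarRing_comm ρ hU hx hy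
  -- there are no nilpotent scalars
  have hnil : ∀ n ∈ R, IsNilpotent n → n = 0 := by
    have hkey : ∀ S : Finset (AddMonoid.End V), (∀ n ∈ S, n ∈ R ∧ IsNilpotent n) →
        ∃ v : V, v ≠ 0 ∧ ∀ n ∈ S, n v = 0 := by
      intro S
      induction S using Finset.induction_on with
      | empty =>
        obtain ⟨v, hv⟩ := exists_ne (0 : V)
        exact fun _ => ⟨v, hv, by simp⟩
      | insert n S hnS ih =>
        intro hS
        obtain ⟨v, hv, hvS⟩ := ih fun m hm => hS m (Finset.mem_insert_of_mem hm)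
        obtain ⟨hnR, k, hk⟩ := hS n (Finset.mem_insert_self n S)
        have hex : ∃ j, (n ^ j) v = 0 := ⟨k, by rw [hk]; rfl⟩
        have hj0 : Nat.find hex ≠ 0 := fun e => hv (by
          have := Nat.find_spec hex
          rw [e, pow_zero] at this
          exact this)
        obtain ⟨j, hj⟩ := Nat.exists_eq_succ_of_ne_zero hj0
        refine ⟨(n ^ j) v, Nat.find_min hex (by omega), fun m hm => ?_⟩
        rcases Finset.mem_insert.1 hm with rfl | hm'
        · have := Nat.find_spec hex
          rwa [hj, pow_succ', AddMonoid.End.coe_mul] at this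
        · have hc : m * n ^ j = n ^ j * m :=
            hcomm m (hS m hm).1 _ (pow_mem hnR j)
          calc m ((n ^ j) v) = (n ^ j) (m v) := DFunLike.congr_fun hc v
            _ = 0 := by rw [hvS m hm', map_zero]
    let K : AddSubgroup V :=
      { carrier := {v | ∀ n ∈ R, IsNilpotent n → n v = 0}
        zero_mem' := fun n _ _ => map_zero _
        add_mem' := fun {x y} hx hy n h1 h2 => by rw [map_add, hx n h1 h2, hy n h1 h2, add_zero]
        neg_mem' := fun {x} hx n h1 h2 => by rw [map_neg, hx n h1 h2, neg_zero] }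
    have hK : Inv ρ K := by
      intro a v hv n h1 h2
      have h3 := hv _ (conjEnd_mem ρ U a⁻¹ h1) (h2.map (conjEnd ρ a⁻¹))
      rw [conjEnd_apply, inv_inv] at h3
      have h4 : ρ a⁻¹ (n (ρ a v)) = 0 := h3
      exact apply_injective ρ a⁻¹ (h4.trans (map_zero _).symm)
    obtain ⟨v, hv, hvS⟩ := hkey (Finset.univ.filter fun n => n ∈ R ∧ IsNilpotent n)
      (fun n hn => (Finset.mem_filter.1 hn).2)
    intro n h1 h2
    rcases hirr K hK with h | h
    · have hvK : v ∈ K := fun m hm hm' =>
        hvS m (Finset.mem_filter.2 ⟨Finset.mem_univ m, hm, hm'⟩)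
      rw [h, AddSubgroup.mem_bot] at hvK
      exact absurd hvK hv
    · refine AddMonoidHom.ext fun x => ?_
      have : x ∈ K := by rw [h]; trivial
      exact this n h1 h2
  -- a nontrivial idempotent
  obtain ⟨i, j, hij, hpow⟩ : ∃ i j : ℕ, i < j ∧ r ^ i = r ^ j := by
    obtain ⟨x, y, hne, he⟩ := Finite.exists_ne_map_eq_of_infinite (fun n : ℕ => r ^ n)
    rcases lt_or_gt_of_ne hne with h | h
    · exact ⟨x, y, h, he⟩
    · exact ⟨y, x, h, he.symm⟩
  set d := j - i with hd
  have hper : ∀ k, i ≤ k → ∀ t, r ^ (k + t * d) = r ^ k := by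
    intro k hk t
    induction t with
    | zero => simp
    | succ t ih =>
      rw [show k + (t + 1) * d = (k + t * d - i) + j by rw [Nat.succ_mul]; omega, pow_add, ← hpow,
        ← pow_add, show k + t * d - i + i = k + t * d by omega, ih]
  set m := d * (i + 1) with hm
  have hmi : i ≤ m := by
    calc i ≤ 1 * (i + 1) := by omega
      _ ≤ d * (i + 1) := Nat.mul_le_mul_right _ (by omega)
  set e := r ^ m with he
  have hee : e * e = e := by
    rw [he, ← pow_add]
    have := hper m hmi (i + 1)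
    rwa [show m + (i + 1) * d = m + m by rw [hm]; ring] at this
  have he0 : e ≠ 0 := fun h => hr0 (hnil r hr ⟨m, h⟩)
  have he1 : e ≠ 1 := fun h => hrinj (by
    intro x y hxy
    have hm0 : m ≠ 0 := by
      have : 0 < d := by omega
      positivity
    obtain ⟨l, hl⟩ := Nat.exists_eq_succ_of_ne_zero hm0
    have : e x = e y := by
      rw [he, hl, pow_succ, AddMonoid.End.coe_mul, Function.comp_apply, Function.comp_apply, hxy]
    rwa [h] at this)
  -- atoms
  let Atom : AddMonoid.End V → Prop := fun f => f ∈ R ∧ f * f = f ∧ f ≠ 0 ∧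
    ∀ g ∈ R, g * g = g → f * g = 0 ∨ f * g = f
  have hbelow : ∀ f ∈ R, f * f = f → f ≠ 0 → ∃ g, Atom g ∧ f * g = g := by
    intro f hf hff hf0
    suffices H : ∀ n, ∀ f ∈ R, f * f = f → f ≠ 0 → Nat.card (Set.range f) = n →
        ∃ g, Atom g ∧ f * g = g from H _ f hf hff hf0 rfl
    intro n
    induction n using Nat.strong_induction_on with
    | _ n IH =>
    intro f hf hff hf0 hn
    by_cases ha : ∀ g ∈ R, g * g = g → f * g = 0 ∨ f * g = f
    · exact ⟨f, ⟨hf, hff, hf0, ha⟩, hff⟩
    push Not at ha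
    obtain ⟨g, hg, hgg, h0, h1⟩ := ha
    have hfg : f * g * (f * g) = f * g := by
      rw [mul_assoc, ← mul_assoc g f g, ← hcomm f hf g hg, mul_assoc f g g, hgg, ← mul_assoc, hff]
    have hsub : Set.range (f * g) ⊂ Set.range f := by
      refine ⟨?_, fun hsup => h1 ?_⟩
      · rintro _ ⟨v, rfl⟩; exact ⟨g v, rfl⟩
      · refine AddMonoidHom.ext fun v => ?_
        obtain ⟨w, hw⟩ := hsup ⟨v, rfl⟩
        have h2 : (f * g * f) v = f v := by
          show (f * g) (f v) = f v
          rw [← hw]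
          exact DFunLike.congr_fun hfg w
        rwa [mul_assoc, ← hcomm f hf g hg, ← mul_assoc, hff] at h2
    obtain ⟨g', hg', hfg'⟩ := IH _ (hn ▸ Set.Finite.card_lt_card (Set.toFinite _) hsub) (f * g)
      (R.mul_mem hf hg) hfg h0 rfl
    refine ⟨g', hg', ?_⟩
    conv_lhs => rw [← hfg', ← mul_assoc, ← mul_assoc, hff]
    exact hfg'
  have hconj : ∀ a f, Atom f → Atom (conjEnd ρ a f) := by
    rintro a f ⟨h1, h2, h3, h4⟩
    refine ⟨conjEnd_mem ρ U a h1, by rw [← map_mul, h2], fun h => h3 ?_, fun g hg hgg => ?_⟩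
    · have := congrArg (conjEnd ρ a⁻¹) h
      rwa [← conjEnd_mul, inv_mul_cancel, conjEnd_one, map_zero] at this
    · have hback : ∀ z, conjEnd ρ a (conjEnd ρ a⁻¹ z) = z := fun z => by
        rw [← conjEnd_mul, mul_inv_cancel, conjEnd_one]
      rcases h4 _ (conjEnd_mem ρ U a⁻¹ hg) (by rw [← map_mul, hgg]) with h | h
      · left; rw [← hback g, ← map_mul, h, map_zero]
      · right; rw [← hback g, ← map_mul, h]
  have horth : ∀ f g, Atom f → Atom g → f ≠ g → f * g = 0 := by
    rintro f g ⟨f1, f2, f3, f4⟩ ⟨g1, g2, g3, g4⟩ hne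
    rcases f4 g g1 g2 with h | h
    · exact h
    rcases g4 f f1 f2 with h' | h'
    · rw [hcomm f f1 g g1, h']
    · exact absurd (h.symm.trans ((hcomm f f1 g g1).trans h')) hne
  let ι := {f : AddMonoid.End V // Atom f}
  letI : MulAction A ι :=
    { smul := fun a f => ⟨conjEnd ρ a f.1, hconj a f.1 f.2⟩
      one_smul := fun f => Subtype.ext (conjEnd_one ρ f.1)
      mul_smul := fun a b f => Subtype.ext (conjEnd_mul ρ a b f.1) }
  have hsum : ∑ f : ι, f.1 = 1 := by
    by_contra hne
    set s := ∑ f : ι, f.1 with hs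
    have hsR : s ∈ R := Subring.sum_mem _ fun f _ => f.2.1
    have hsf : ∀ f : ι, s * f.1 = f.1 := fun f => by
      rw [hs, Finset.sum_mul, Finset.sum_eq_single f
        (fun g _ hg => horth _ _ g.2 f.2 fun e => hg (Subtype.ext e))
        (fun h => absurd (Finset.mem_univ f) h), f.2.2.1]
    have hss : s * s = s := by
      conv_lhs => arg 2; rw [hs]
      rw [Finset.mul_sum]
      exact Finset.sum_congr rfl fun f _ => hsf f
    obtain ⟨g, hg, hgs⟩ := hbelow (1 - s) (R.sub_mem R.one_mem hsR)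
      (by rw [sub_mul, one_mul, mul_sub, mul_one, hss, sub_self, sub_zero])
      (sub_ne_zero.2 (Ne.symm hne))
    rw [sub_mul, one_mul, hsf ⟨g, hg⟩, sub_self] at hgs
    exact hg.2.2.1 hgs.symm
  let B : Blocks ρ ι :=
    { π := fun f => f.1
      ne_zero := fun f => f.2.2.2.1
      orth := fun f g h => horth _ _ f.2 g.2 fun e => h (Subtype.ext e)
      idem := fun f => f.2.2.1
      sum_eq := hsum
      equiv := fun a f => mul_eq_conjEnd_mul ρ a f.1 }
  refine ⟨ι, inferInstance, inferInstance, B, ?_⟩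
  by_contra hone
  push Not at hone
  obtain ⟨f, hf, hef⟩ := hbelow e (pow_mem hr m) hee he0
  have hf1 : f = 1 := by
    rw [← hsum, Finset.sum_eq_single (⟨f, hf⟩ : ι) (fun g _ hg => absurd (hone g _) hg)
      (fun h => absurd (Finset.mem_univ _) h)]
  rw [hf1, mul_one] at hef
  exact he1 hef

end CfsgLib.OddBase
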