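import Cfsg.Agent.Lib.OddBase.Basic
import Cfsg.Agent.Lib.PCore.Basic
import Cfsg.Agent.Lib.Solvable.MinNormal

/-!
Completely reducible automorphism groups of small abelian groups.
-/

set_option autoImplicit false
set_option linter.style.haveILetI false

open Subgroup

namespace CfsgLib.OddBase

universe u

variable {A : Type u} [Group A] {N : Type u} [CommGroup N]

/-- An action by automorphisms, written additively. -/
def addRep (φ : A →* MulAut N) : A →* AddMonoid.End (Additive N) where
  toFun a := (φ a).toMonoidHom.toAdditive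
  map_one' := by rw [map_one]; rfl
  map_mul' a b := by rw [map_mul]; rfl

theorem addRep_apply (φ : A →* MulAut N) (a : A) (v : Additive N) :
    addRep φ a v = Additive.ofMul (φ a v.toMul) := rfl

theorem addRep_eq_one (φ : A →* MulAut N) (a : A) : addRep φ a = 1 ↔ φ a = 1 := by
  constructor
  · intro h
    ext x
    exact congrArg Additive.toMul (DFunLike.congr_fun h (Additive.ofMul x))
  · intro h
    ext v
    rw [addRep_apply, h]; rfl

/-- A completely reducible action has no nontrivial normal `r`-subgroup acting on an `r`-group. -/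
theorem eq_bot_of_normal_pGroup [Finite N] {r : ℕ} [hr : Fact r.Prime] (hN : IsPGroup r N)
    (φ : A →* MulAut N) (hcr : CR (addRep φ)) (P : Subgroup A) [P.Normal]
    (hP : IsPGroup r (P.map φ)) : ∀ p ∈ P, φ p = 1 := by
  let F : AddSubgroup (Additive N) :=
    { carrier := {v | ∀ p ∈ P, addRep φ p v = v}
      zero_mem' := fun p _ => map_zero _
      add_mem' := fun {x y} hx hy p hp => by rw [map_add, hx p hp, hy p hp]
      neg_mem' := fun {x} hx p hp => by rw [map_neg, hx p hp] }
  have hF : Inv (addRep φ) F := by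
    intro a v hv p hp
    have := hv _ (Normal.conj_mem' ‹_› p hp a)
    rw [apply_mul, apply_mul] at this
    have h2 := congrArg (addRep φ a) this
    rwa [apply_apply_inv] at h2
  obtain ⟨D, hD, hinf, hsup⟩ := hcr F hF
  have hDbot : D = ⊥ := by
    by_contra hne
    letI : MulAction (P.map φ) D :=
      { smul := fun x d => ⟨Additive.ofMul ((x : MulAut N) (d : Additive N).toMul), by
          obtain ⟨p, hp, hpx⟩ := x.2
          rw [← hpx, ← addRep_apply]
          exact hD p _ d.2⟩
        one_smul := fun d => rfl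
        mul_smul := fun x y d => rfl }
    have hdvd : r ∣ Nat.card D := by
      have h1 : Nat.card D ∣ Nat.card (Additive N) := AddSubgroup.card_addSubgroup_dvd_card D
      obtain ⟨k, hk⟩ := IsPGroup.iff_card.1 hN
      rw [Nat.card_congr (Additive.toMul (α := N)), hk] at h1
      obtain ⟨j, -, hj⟩ := (Nat.dvd_prime_pow hr.out).1 h1
      rcases Nat.eq_zero_or_pos j with rfl | hj0
      · rw [pow_zero] at hj
        exact absurd (AddSubgroup.card_eq_one.1 hj) hne
      · exact hj ▸ dvd_pow_self r hj0.ne'
    have h0 : (0 : D) ∈ MulAction.fixedPoints (P.map φ) D := fun x =>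
      Subtype.ext (show Additive.ofMul ((x : MulAut N) 1) = 0 by rw [map_one]; rfl)
    obtain ⟨b, hb, hb0⟩ := hP.exists_fixed_point_of_prime_dvd_card_of_fixed_point D hdvd h0
    have hbF : (b : Additive N) ∈ F := fun p hp =>
      congrArg Subtype.val (hb ⟨φ p, p, hp, rfl⟩)
    have : (b : Additive N) ∈ F ⊓ D := ⟨hbF, b.2⟩
    rw [hinf, AddSubgroup.mem_bot] at this
    exact hb0 (Subtype.ext this.symm)
  rw [hDbot, sup_bot_eq] at hsup
  intro p hp
  rw [← addRep_eq_one]
  ext v
  exact (hsup.symm ▸ (trivial : v ∈ (⊤ : AddSubgroup (Additive N))) : v ∈ F) p hp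

/-- A completely reducible abelian group of prime power order has prime exponent. -/
theorem pow_eq_one_of_CR [Finite N] {r k : ℕ} [Fact r.Prime] (hN : Nat.card N = r ^ k)
    (φ : A →* MulAut N) (hcr : CR (addRep φ)) (x : N) : x ^ r = 1 := by
  let P : AddSubgroup (Additive N) := (nsmulAddMonoidHom r).range
  have hP : Inv (addRep φ) P := by
    rintro a _ ⟨v, rfl⟩
    exact ⟨addRep φ a v, (map_nsmul _ _ _).symm⟩
  obtain ⟨D, -, hinf, hsup⟩ := hcr P hP
  have hD : ∀ d ∈ D, r • d = 0 := fun d hd => by
    have : r • d ∈ P ⊓ D := ⟨⟨d, rfl⟩, D.nsmul_mem hd r⟩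
    rwa [hinf, AddSubgroup.mem_bot] at this
  have hstep : ∀ v : Additive N, ∃ y, r • v = (r * r) • y := fun v => by
    have : v ∈ P ⊔ D := by rw [hsup]; trivial
    obtain ⟨_, ⟨y, rfl⟩, d, hd, rfl⟩ := AddSubgroup.mem_sup.1 this
    refine ⟨y, ?_⟩
    rw [nsmul_add, hD d hd, add_zero, nsmulAddMonoidHom_apply, mul_nsmul]
  have hall : ∀ j, ∀ v : Additive N, ∃ y, r • v = (r ^ (j + 1)) • y := by
    intro j
    induction j with
    | zero => exact fun v => ⟨v, by rw [pow_one]⟩
    | succ j ih =>
      intro v
      obtain ⟨y, hy⟩ := ih v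
      obtain ⟨z, hz⟩ := hstep y
      refine ⟨z, ?_⟩
      rw [hy, pow_succ r j, mul_nsmul' y (r ^ j) r, hz, ← mul_nsmul']
      congr 1
      ring
  obtain ⟨y, hy⟩ := hall k (Additive.ofMul x)
  have h0 : (r ^ (k + 1)) • y = 0 := by
    rw [pow_succ, mul_nsmul, ← hN, ← Nat.card_congr (Additive.toMul (α := N)), card_nsmul_eq_zero',
      nsmul_zero]
  rw [h0] at hy
  exact congrArg Additive.toMul hy

/-- A faithful linear group over the prime field has order dividing that of the general linear
group. -/
theorem card_dvd_end_aux {W : Type u} [AddCommGroup W] [Finite W] {r k : ℕ} [Fact r.Prime]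
    [Module (ZMod r) W] (hW : Nat.card W = r ^ k) {X : Type u} [Group X]
    (σ : X →* AddMonoid.End W) (hσ : Function.Injective σ) :
    Nat.card X ∣ ∏ i : Fin k, (r ^ k - r ^ (i : ℕ)) := by
  let f : X →* Module.End (ZMod r) W :=
    { toFun := fun x =>
        { toFun := fun v => σ x v
          map_add' := fun v w => map_add _ v w
          map_smul' := fun c v => ZMod.map_smul (σ x) c v }
      map_one' := LinearMap.ext fun v => by
        show σ 1 v = v
        rw [map_one]; rfl
      map_mul' := fun x y => LinearMap.ext fun v => by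
        show σ (x * y) v = σ x (σ y v)
        rw [apply_mul] }
  haveI hfi : Module.Finite (ZMod r) W := Module.Finite.of_finite
  have hfin : Module.finrank (ZMod r) W = k := by
    have h := Module.natCard_eq_pow_finrank (K := ZMod r) (V := W)
    rw [hW, Nat.card_zmod] at h
    exact (Nat.pow_right_injective (Fact.out : r.Prime).two_le h).symm
  let b := (Module.finBasis (ZMod r) W).reindex (finCongr hfin)
  let F : X →* GL (Fin k) (ZMod r) :=
    (Matrix.GeneralLinearGroup.toLin' b).symm.toMonoidHom.comp f.toHomUnits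
  have hF : Function.Injective F := by
    intro x y h
    have h1 : f.toHomUnits x = f.toHomUnits y :=
      (Matrix.GeneralLinearGroup.toLin' b).symm.injective h
    apply hσ
    ext n
    exact LinearMap.congr_fun (congrArg Units.val h1) n
  have := Subgroup.card_dvd_of_injective F hF
  rwa [Matrix.card_GL_field, ZMod.card] at this

/-- A faithful linear group on an elementary abelian group of order `r ^ k`. -/
theorem card_dvd_end {W : Type u} [AddCommGroup W] [Finite W] {r k : ℕ} [Fact r.Prime]
    (hW : Nat.card W = r ^ k) (hexp : ∀ v : W, r • v = 0) {X : Type u} [Group X]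
    (σ : X →* AddMonoid.End W) (hσ : Function.Injective σ) :
    Nat.card X ∣ ∏ i : Fin k, (r ^ k - r ^ (i : ℕ)) := by
  let m : Module (ZMod r) W := AddCommGroup.zmodModule hexp
  exact @card_dvd_end_aux W _ _ r k _ m hW X _ σ hσ

/-- The multiplicative form. -/
theorem card_dvd_aut [Finite N] {r k : ℕ} [Fact r.Prime] (hN : Nat.card N = r ^ k)
    (hexp : ∀ x : N, x ^ r = 1) {X : Type u} [Group X] (φ : X →* MulAut N)
    (hφ : Function.Injective φ) :
    Nat.card X ∣ ∏ i : Fin k, (r ^ k - r ^ (i : ℕ)) := by
  refine card_dvd_end (W := Additive N) ((Nat.card_congr Additive.toMul).trans hN)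
    (fun v => congrArg Additive.ofMul (hexp v.toMul)) (addRep φ) fun x y h => hφ ?_
  ext n
  exact congrArg Additive.toMul (DFunLike.congr_fun h (Additive.ofMul n))

/-- A group of odd order `r ^ a * s` without normal `r`-subgroups. -/
theorem card_dvd_of_no_pCore {X : Type u} [Group X] [Finite X] [Group.IsSolvable X] {r s a : ℕ}
    [hr : Fact r.Prime] [hs : Fact s.Prime] (hd : Nat.card X ∣ r ^ a * s)
    (hno : ∀ P : Subgroup X, P.Normal → IsPGroup r P → P = ⊥) :
    Nat.card X ∣ s * (s - 1) := by
  rcases subsingleton_or_nontrivial X with hX | hX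
  · simp
  obtain ⟨R, hR⟩ := CfsgLib.MinNormal.exists_isMinNormal (G := X)
  obtain ⟨p, hp, -, hpR, m, hm, hRc⟩ := hR.elementaryAbelian_of_solvable
  have hne : p ≠ r := fun e => hR.2.1 (hno R hR.1 (e ▸ hpR))
  have hRd : p ^ m ∣ r ^ a * s := hRc ▸ (Subgroup.card_subgroup_dvd_card R).trans hd
  have hps : Nat.Coprime (p ^ m) (r ^ a) :=
    Nat.Coprime.pow _ _ ((Nat.coprime_primes hp hr.out).2 hne)
  have hRs : Nat.card R = s := by
    have h1 := hps.dvd_of_dvd_mul_left hRd
    rw [hRc]
    exact (Nat.dvd_prime hs.out).1 h1 |>.resolve_left (by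
      intro e; exact absurd ((Nat.pow_eq_one.1 e).resolve_right hm.ne') hp.one_lt.ne')
  have hcyc : IsCyclic R := isCyclic_of_prime_card hRs
  have hRn := hR.1
  set C := Subgroup.centralizer (R : Set X) with hC
  -- the index of the centraliser
  let c : X →* MulAut R := MulAut.conjNormal
  have hker : c.ker = C := by
    ext x
    rw [MonoidHom.mem_ker, hC, Subgroup.mem_centralizer_iff, MulEquiv.ext_iff]
    constructor
    · intro h y hy
      have := congrArg Subtype.val (h ⟨y, hy⟩)
      rw [MulAut.conjNormal_apply, MulAut.one_apply] at this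
      exact (mul_inv_eq_iff_eq_mul.1 this).symm
    · intro h y
      apply Subtype.ext
      rw [MulAut.conjNormal_apply, MulAut.one_apply, mul_inv_eq_iff_eq_mul, h y y.2]
  have hindex : C.index ∣ s - 1 := by
    rw [← hker, Subgroup.index_ker]
    refine (Subgroup.card_subgroup_dvd_card _).trans ?_
    rw [IsCyclic.card_mulAut, hRs, Nat.totient_prime hs.out]
  -- the centraliser is the prime order subgroup
  have hCn : C.Normal := by rw [← hker]; infer_instance
  have hRC : R ≤ C := by
    haveI := hcyc.isMulCommutative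
    intro x hx y hy
    exact congrArg Subtype.val (mul_comm' (⟨y, hy⟩ : R) ⟨x, hx⟩)
  have hCs : Nat.card C = s := by
    obtain ⟨P⟩ : Nonempty (Sylow r C) := inferInstance
    have hPn : (P : Subgroup C).Normal := by
      rw [← Subgroup.normalizer_eq_top_iff]
      apply Subgroup.eq_top_of_card_eq
      apply Nat.dvd_antisymm (Subgroup.card_subgroup_dvd_card _)
      have hR' : R.subgroupOf C ≤ Subgroup.normalizer ((P : Subgroup C) : Set C) := by
        refine le_trans (fun x hx => ?_) (Subgroup.centralizer_le_normalizer _)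
        intro y hy
        exact Subtype.ext ((Subgroup.mem_centralizer_iff.1 y.2 x hx).symm)
      have h1 : Nat.card P ∣ Nat.card (Subgroup.normalizer ((P : Subgroup C) : Set C)) :=
        Subgroup.card_dvd_of_le Subgroup.le_normalizer
      have h2 : s ∣ Nat.card (Subgroup.normalizer ((P : Subgroup C) : Set C)) := by
        rw [← hRs, ← Nat.card_congr (Subgroup.subgroupOfEquivOfLe hRC).toEquiv]
        exact Subgroup.card_dvd_of_le hR'
      have h3 : Nat.card C ∣ Nat.card P * s := by
        have hCd : Nat.card C ∣ r ^ a * s := (Subgroup.card_subgroup_dvd_card C).trans hd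
        have hidx : ¬ r ∣ (P : Subgroup C).index := P.not_dvd_index
        have hmul := (P : Subgroup C).card_mul_index
        rw [← hmul]
        refine Nat.mul_dvd_mul_left _ ?_
        exact (((Nat.Prime.coprime_iff_not_dvd hr.out).2 hidx).pow_left a).symm.dvd_of_dvd_mul_left
          ((Dvd.intro_left _ hmul).trans hCd)
      have hPr : (Nat.card P).Coprime s := by
        obtain ⟨j, hj⟩ := IsPGroup.iff_card.1 P.2
        have hrs : r ≠ s := fun e => hne ((Nat.prime_dvd_prime_iff_eq hp hs.out).1
          (hRs ▸ hRc ▸ dvd_pow_self p hm.ne') |>.trans e.symm)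
        rw [hj]
        exact ((Nat.coprime_primes hr.out hs.out).2 hrs).pow_left j
      exact h3.trans (hPr.mul_dvd_of_dvd_of_dvd h1 h2)
    have hPchar : (P : Subgroup C).Characteristic := P.characteristic_of_normal hPn
    have hPb : ((P : Subgroup C).map C.subtype) = ⊥ :=
      hno _ inferInstance (P.2.map C.subtype)
    rw [Subgroup.map_eq_bot_iff_of_injective _ C.subtype_injective] at hPb
    have hCd : Nat.card C ∣ r ^ a * s := (Subgroup.card_subgroup_dvd_card C).trans hd
    have hnd : ¬ r ∣ Nat.card C := by
      have := P.not_dvd_index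
      rwa [hPb, Subgroup.index_bot] at this
    refine Nat.dvd_antisymm ?_ (hRs ▸ Subgroup.card_dvd_of_le hRC)
    exact (((Nat.Prime.coprime_iff_not_dvd hr.out).2 hnd).pow_left a).symm.dvd_of_dvd_mul_left hCd
  rw [← C.card_mul_index, hCs]
  exact Nat.mul_dvd_mul_left _ hindex

end CfsgLib.OddBase
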