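import Cfsg.Agent.Lib.OddBase.Scalars

/-!
The layer above the scalars: a normal subgroup of class two with centraliser in the scalars.
-/

set_option autoImplicit false
set_option linter.style.haveILetI false

open Subgroup
open scoped commutatorElement

namespace CfsgLib.OddBase

universe u w

variable {A : Type u} [Group A]

/-- Homomorphisms into a finite cyclic group are at most as many as the elements. -/
theorem card_hom_le {Q : Type*} [Group Q] [Finite Q] {U : Type*} [Group U] [Finite U] [IsCyclic U] :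
    Nat.card (Q →* U) ≤ Nat.card Q := by
  haveI : NeZero (Nat.card U) := ⟨Nat.card_pos.ne'⟩
  have hcard : Nat.card U = Nat.card (rootsOfUnity (Nat.card U) ℂ) := by
    rw [Complex.card_rootsOfUnity]
  let e := mulEquivOfCyclicCardEq hcard
  let j : U →* ℂˣ := (rootsOfUnity (Nat.card U) ℂ).subtype.comp e.toMonoidHom
  have hj : Function.Injective j := Subtype.val_injective.comp e.injective
  haveI : Finite (Abelianization Q →* ℂˣ) := inferInstance
  refine (Nat.card_le_card_of_injective (fun f : Q →* U => Abelianization.lift (j.comp f)) ?_).trans ?_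
  · intro f g h
    ext q
    have := DFunLike.congr_fun h (Abelianization.of q)
    simp only [Abelianization.lift_apply_of] at this
    exact hj this
  · rw [CommGroup.card_monoidHom_of_hasEnoughRootsOfUnity (Abelianization Q) ℂ]
    exact Nat.le_of_dvd Nat.card_pos (Subgroup.card_quotient_dvd_card _)

/-- The commutator pairing bounds an index. -/
theorem relIndex_centralizer_le [Finite A] {U N X Y : Subgroup A} [IsCyclic U] (hNX : N ≤ X)
    (hn : (N.subgroupOf X).Normal) (hUY : ∀ u ∈ U, ∀ x ∈ X, u * x = x * u)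
    (hc : ∀ x ∈ X, ∀ y ∈ Y, ⁅y, x⁆ ∈ U) (hNY : ∀ x ∈ N, ∀ y ∈ Y, y * x = x * y) :
    (Y ⊓ centralizer (X : Set A)).relIndex Y ≤ N.relIndex X := by
  let f : Y → (X →* U) := fun y =>
    { toFun := fun x => ⟨⁅(y : A), (x : A)⁆, hc x x.2 y y.2⟩
      map_one' := Subtype.ext (by simp [commutatorElement_def])
      map_mul' := fun x x' => Subtype.ext (by
        have hcomm := hUY _ (hc x' x'.2 y y.2) x x.2
        show ⁅(y : A), (x : A) * x'⁆ = ⁅(y : A), (x : A)⁆ * ⁅(y : A), (x' : A)⁆
        have e : ⁅(y : A), (x : A) * x'⁆ =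
            ⁅(y : A), (x : A)⁆ * ((x : A) * ⁅(y : A), (x' : A)⁆ * (x : A)⁻¹) := by
          simp only [commutatorElement_def]; group
        rw [e, ← hcomm, mul_inv_cancel_right]) }
  have hker : ∀ (y : Y), N.subgroupOf X ≤ (f y).ker := by
    intro y x hx
    apply Subtype.ext
    show ⁅(y : A), (x : A)⁆ = 1
    exact commutatorElement_eq_one_iff_mul_comm.2 (hNY x hx y y.2)
  let g : Y ⧸ (Y ⊓ centralizer (X : Set A)).subgroupOf Y → (X ⧸ N.subgroupOf X →* U) :=
    fun c => QuotientGroup.lift _ (f c.out) (hker c.out)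
  have hg : Function.Injective g := by
    intro c d h
    rw [← Quotient.out_eq c, ← Quotient.out_eq d]
    refine Quotient.sound (QuotientGroup.leftRel_apply.2 ?_)
    rw [mem_subgroupOf]
    refine ⟨(c.out⁻¹ * d.out : Y).2, mem_centralizer_iff.2 fun x hx => ?_⟩
    have := congrArg Subtype.val (DFunLike.congr_fun h ((⟨x, hx⟩ : X) : X ⧸ N.subgroupOf X))
    change ⁅(c.out : A), x⁆ = ⁅(d.out : A), x⁆ at this
    rw [commutatorElement_def, commutatorElement_def] at this
    have e : (c.out : A) * x * (c.out : A)⁻¹ = (d.out : A) * x * (d.out : A)⁻¹ :=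
      mul_right_cancel this
    show x * ((c.out : A)⁻¹ * d.out) = (c.out : A)⁻¹ * d.out * x
    calc x * ((c.out : A)⁻¹ * d.out)
        = (c.out : A)⁻¹ * ((c.out : A) * x * (c.out : A)⁻¹) * d.out := by group
      _ = (c.out : A)⁻¹ * ((d.out : A) * x * (d.out : A)⁻¹) * d.out := by rw [e]
      _ = _ := by group
  haveI : Finite (X ⧸ N.subgroupOf X →* U) := Finite.of_injective _ DFunLike.coe_injective
  exact (Nat.card_le_card_of_injective g hg).trans card_hom_le

/-- A normal subgroup over the abelian normal subgroup `U`, of class two, with centraliser inside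
`U`. -/
structure Layer (U E : Subgroup A) : Prop where
  normal : E.Normal
  le : U ≤ E
  le_cent : E ≤ centralizer (U : Set A)
  comm : ∀ x ∈ E, ∀ y ∈ E, ⁅x, y⁆ ∈ U
  cent : centralizer (E : Set A) ⊓ centralizer (U : Set A) ≤ U

/-- A layer exists. -/
theorem exists_layer [Finite A] [Group.IsSolvable A] {U : Subgroup A} [U.Normal]
    (hab : ∀ x ∈ U, ∀ y ∈ U, x * y = y * x)
    (hmax : ∀ B : Subgroup A, B.Normal → (∀ x ∈ B, ∀ y ∈ B, x * y = y * x) → U ≤ B → B ≤ U) :
    ∃ E, Layer U E := by
  set C := centralizer (U : Set A) with hC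
  have hUC : U ≤ C := fun x hx => mem_centralizer_iff.2 fun y hy => hab y hy x hx
  let s : Set (Subgroup A) := {E | E.Normal ∧ U ≤ E ∧ E ≤ C ∧ ⁅E, E⁆ ≤ U}
  have hne : s.Nonempty := by
    refine ⟨U, inferInstance, le_rfl, hUC, ?_⟩
    rw [commutator_le]
    intro x hx y hy
    rw [commutatorElement_eq_one_iff_mul_comm.2 (hab x hx y hy)]
    exact U.one_mem
  obtain ⟨E, hE, hEmax⟩ := (Set.toFinite s).exists_maximal hne
  obtain ⟨hEn, hUE, hEC, hEE⟩ := hE
  haveI := hEn
  refine ⟨E, hEn, hUE, hEC, fun x hx y hy => commutator_le.1 hEE x hx y hy, ?_⟩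
  set D := centralizer (E : Set A) ⊓ C with hD
  haveI : D.Normal := by rw [hD]; infer_instance
  by_contra hDU
  -- the derived series of `D`
  let F : ℕ → Subgroup A := fun k => Nat.rec (motive := fun _ => Subgroup A) D (fun _ H => ⁅H, H⁆) k
  have hFn : ∀ k, (F k).Normal := by
    intro k
    induction k with
    | zero => exact inferInstanceAs D.Normal
    | succ k ih =>
      haveI := ih
      exact @Subgroup.commutator_normal A _ (F k) (F k) ih ih
  have hFle : ∀ k, F k ≤ derivedSeries A k := by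
    intro k
    induction k with
    | zero => exact le_top
    | succ k ih => exact commutator_mono ih ih
  obtain ⟨n, hn⟩ := (Group.isSolvable_def (G := A)).1 inferInstance
  classical
  have hex : ∃ k, F k ≤ U := ⟨n, le_trans (hFle n) (hn ▸ bot_le)⟩
  have h0 : Nat.find hex ≠ 0 := fun e => hDU (by
    have := Nat.find_spec hex
    rwa [e] at this)
  obtain ⟨k, hk⟩ := Nat.exists_eq_succ_of_ne_zero h0
  have hMU : ¬ F k ≤ U := Nat.find_min hex (by omega)
  have hMM : ⁅F k, F k⁆ ≤ U := by
    have := Nat.find_spec hex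
    rwa [hk] at this
  have hMD : F k ≤ D := by
    clear hk hMU hMM
    induction k with
    | zero => exact le_rfl
    | succ k ih =>
      haveI := hFn k
      exact le_trans (commutator_le_left _ _) ih
  haveI := hFn k
  have hsup : E ⊔ F k ∈ s := by
    refine ⟨@Subgroup.sup_normal A _ E (F k) hEn (hFn k), hUE.trans le_sup_left, sup_le hEC (hMD.trans inf_le_right), ?_⟩
    have hker : ∀ H K : Subgroup A, ⁅H, K⁆ ≤ U ↔
        ⁅H.map (QuotientGroup.mk' U), K.map (QuotientGroup.mk' U)⁆ = ⊥ := fun H K => by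
      rw [← map_commutator, Subgroup.map_eq_bot_iff, QuotientGroup.ker_mk']
    rw [hker, commutator_eq_bot_iff_le_centralizer, Subgroup.map_sup]
    have hEF : ⁅E, F k⁆ ≤ U := by
      rw [commutator_le]
      intro x hx y hy
      rw [commutatorElement_eq_one_iff_mul_comm.2 (mem_centralizer_iff.1 (hMD hy).1 x hx)]
      exact U.one_mem
    have hFE : ⁅F k, E⁆ ≤ U := by rw [commutator_comm]; exact hEF
    rw [hker, commutator_eq_bot_iff_le_centralizer] at hEE hEF hFE hMM
    have h1 : E.map (QuotientGroup.mk' U) ⊔ (F k).map (QuotientGroup.mk' U) ≤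
        centralizer (E.map (QuotientGroup.mk' U) : Set (A ⧸ U)) := sup_le hEE hFE
    have h2 : E.map (QuotientGroup.mk' U) ⊔ (F k).map (QuotientGroup.mk' U) ≤
        centralizer ((F k).map (QuotientGroup.mk' U) : Set (A ⧸ U)) := sup_le hEF hMM
    exact sup_le (le_centralizer_iff.1 h1) (le_centralizer_iff.1 h2)
  have hFE : F k ≤ E := le_trans le_sup_right (hEmax hsup le_sup_left)
  have hZ : E ⊓ centralizer (E : Set A) ≤ U := by
    refine hmax _ inferInstance ?_ (le_inf hUE ?_)
    · intro x hx y hy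
      exact (mem_centralizer_iff.1 hy.2 x hx.1)
    · intro u hu
      exact mem_centralizer_iff.2 fun x hx => (mem_centralizer_iff.1 (hEC hx) u hu).symm
  exact hMU fun x hx => hZ ⟨hFE hx, (hMD hx).1⟩

namespace Layer

variable {U E : Subgroup A}

theorem commute (h : Layer U E) {u : A} (hu : u ∈ U) {x : A} (hx : x ∈ E) : u * x = x * u :=
  mem_centralizer_iff.1 (h.le_cent hx) u hu

theorem center_le (h : Layer U E) : E ⊓ centralizer (E : Set A) ≤ U :=
  fun _ hx => h.cent ⟨hx.2, h.le_cent hx.1⟩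

theorem exists_comm_ne_one (h : Layer U E) {x : A} (hx : x ∈ E) (hxU : x ∉ U) :
    ∃ y ∈ E, ⁅x, y⁆ ≠ 1 := by
  by_contra hcon
  push Not at hcon
  exact hxU (h.center_le ⟨hx, mem_centralizer_iff.2 fun y hy =>
    (commutatorElement_eq_one_iff_mul_comm.1 (hcon y hy)).symm⟩)

theorem exists_comm_ne_one' (h : Layer U E) {a : A} (ha : a ∈ centralizer (U : Set A))
    (haU : a ∉ U) : ∃ y ∈ E, ⁅a, y⁆ ≠ 1 := by
  by_contra hcon
  push Not at hcon
  exact haU (h.cent ⟨mem_centralizer_iff.2 fun y hy =>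
    (commutatorElement_eq_one_iff_mul_comm.1 (hcon y hy)).symm, ha⟩)

theorem normal_quot (h : Layer U E) : (U.subgroupOf E).Normal := by
  refine ⟨fun x hx y => ?_⟩
  rw [mem_subgroupOf] at hx ⊢
  show (y : A) * x * (y : A)⁻¹ ∈ U
  rw [← h.commute hx y.2, mul_inv_cancel_right]
  exact hx

theorem quot_comm (h : Layer U E) [(U.subgroupOf E).Normal] (a b : E ⧸ U.subgroupOf E) :
    a * b = b * a := by
  induction a using QuotientGroup.induction_on with
  | _ x =>
  induction b using QuotientGroup.induction_on with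
  | _ y =>
  rw [← QuotientGroup.mk_mul, ← QuotientGroup.mk_mul, QuotientGroup.eq, mem_subgroupOf]
  have := h.comm (y : A)⁻¹ (E.inv_mem y.2) (x : A)⁻¹ (E.inv_mem x.2)
  show ((x : A) * y)⁻¹ * ((y : A) * x) ∈ U
  convert this using 1
  rw [commutatorElement_def]
  group

/-- The pairing in a layer. -/
theorem relIndex_perp_le [Finite A] [IsCyclic U] (h : Layer U E) {P : Subgroup A} (hUP : U ≤ P)
    (hPE : P ≤ E) : (E ⊓ centralizer (P : Set A)).relIndex E ≤ U.relIndex P := by
  refine relIndex_centralizer_le hUP ?_ (fun u hu x hx => h.commute hu (hPE hx))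
    (fun x hx y hy => h.comm y hy x (hPE hx)) (fun x hx y hy => (h.commute hx hy).symm)
  refine ⟨fun x hx y => ?_⟩
  rw [mem_subgroupOf] at hx ⊢
  show (y : A) * x * (y : A)⁻¹ ∈ U
  rw [← h.commute hx (hPE y.2), mul_inv_cancel_right]
  exact hx

/-- Elements centralising `U` and acting trivially on the layer lie in it. -/
theorem le_of_acts_trivially [Finite A] [IsCyclic U] (h : Layer U E) {Y : Subgroup A}
    (hY : Y ≤ centralizer (U : Set A)) (hEY : E ≤ Y) (hc : ∀ y ∈ Y, ∀ x ∈ E, ⁅y, x⁆ ∈ U) :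
    Y ≤ E := by
  haveI := h.normal_quot
  have h1 := relIndex_centralizer_le (U := U) (N := U) (X := E) (Y := Y) h.le h.normal_quot
    (fun u hu x hx => h.commute hu hx) (fun x hx y hy => hc y hy x hx)
    (fun x hx y hy => (mem_centralizer_iff.1 (hY hy) x hx).symm)
  have h2 : U.relIndex Y ≤ (Y ⊓ centralizer (E : Set A)).relIndex Y := by
    refine Subgroup.relIndex_le_of_le_left ?_ FiniteIndex.index_ne_zero
    exact fun y hy => h.cent ⟨hy.2, hY hy.1⟩
  have h3 := relIndex_mul_relIndex U E Y h.le hEY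
  have hpos : 0 < U.relIndex E := Nat.pos_of_ne_zero FiniteIndex.index_ne_zero
  have h4 : E.relIndex Y = 1 := by
    have h5 : U.relIndex E * E.relIndex Y ≤ U.relIndex E * 1 := by
      rw [h3, mul_one]; exact h2.trans h1
    have h6 := Nat.le_of_mul_le_mul_left h5 hpos
    have h7 : 0 < E.relIndex Y := Nat.pos_of_ne_zero FiniteIndex.index_ne_zero
    omega
  exact relIndex_eq_one.1 h4

/-- The order of the layer modulo the scalars is a square. -/
theorem exists_sq [Finite A] [IsCyclic U] (h : Layer U E)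
    (hab : ∀ x ∈ U, ∀ y ∈ U, x * y = y * x) : ∃ e, U.relIndex E = e ^ 2 := by
  let s : Set (Subgroup A) := {L | U ≤ L ∧ L ≤ E ∧ ∀ x ∈ L, ∀ y ∈ L, x * y = y * x}
  obtain ⟨L, ⟨hUL, hLE, hLab⟩, hLmax⟩ :=
    (Set.toFinite s).exists_maximal ⟨U, le_rfl, h.le, hab⟩
  have hperp : E ⊓ centralizer (L : Set A) = L := by
    refine le_antisymm (fun x hx => ?_) (le_inf hLE fun x hx =>
      mem_centralizer_iff.2 fun y hy => hLab y hy x hx)
    have hcl : L ⊔ zpowers x ≤ centralizer ((L ⊔ zpowers x : Subgroup A) : Set A) := by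
      have hxL : ∀ y ∈ L, y * x = x * y := mem_centralizer_iff.1 hx.2
      refine sup_le (le_centralizer_iff.1 (sup_le ?_ ?_)) (le_centralizer_iff.1 (sup_le ?_ ?_))
      · exact fun y hy => mem_centralizer_iff.2 fun z hz => hLab z hz y hy
      · exact zpowers_le.2 hx.2
      · intro y hy
        refine mem_centralizer_iff.2 fun z hz => ?_
        obtain ⟨i, rfl⟩ := mem_zpowers_iff.1 hz
        exact (Commute.zpow_left (hxL y hy).symm i).eq
      · refine zpowers_le.2 (mem_centralizer_iff.2 fun z hz => ?_)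
        obtain ⟨i, rfl⟩ := mem_zpowers_iff.1 hz
        exact ((Commute.refl x).zpow_left i).eq
    exact hLmax (show L ⊔ zpowers x ∈ s from ⟨hUL.trans le_sup_left, sup_le hLE (zpowers_le.2 hx.1),
      fun a ha b hb => (mem_centralizer_iff.1 (hcl hb) a ha)⟩) le_sup_left
      (le_sup_right (a := L) (mem_zpowers x))
  have h1 : L.relIndex E ≤ U.relIndex L := by
    have := h.relIndex_perp_le hUL hLE
    rwa [hperp] at this
  have hn : (L.subgroupOf E).Normal := by
    refine ⟨fun x hx y => ?_⟩
    rw [mem_subgroupOf] at hx ⊢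
    show (y : A) * x * (y : A)⁻¹ ∈ L
    have := h.comm y y.2 x (hLE hx)
    rw [commutatorElement_def] at this
    convert L.mul_mem (hUL this) hx using 1
    group
  have h2 : U.relIndex L ≤ L.relIndex E := by
    refine le_trans (Subgroup.relIndex_le_of_le_left ?_ FiniteIndex.index_ne_zero)
      (relIndex_centralizer_le (U := U) (N := L) (X := E) (Y := L) hLE hn
        (fun u hu x hx => h.commute hu hx) (fun x hx y hy => h.comm y (hLE hy) x hx)
        fun x hx y hy => hLab y hy x hx)
    exact fun x hx => h.center_le ⟨hLE hx.1, hx.2⟩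
  exact ⟨U.relIndex L, by rw [← relIndex_mul_relIndex U L E hUL hLE, le_antisymm h1 h2, pow_two]⟩

/-- Primes dividing the layer divide the scalars. -/
theorem dvd_card (h : Layer U E) [Finite A] {r : ℕ} (hr : r.Prime) (hd : r ∣ U.relIndex E) :
    r ∣ Nat.card U := by
  haveI := h.normal_quot
  haveI : Fact r.Prime := ⟨hr⟩
  obtain ⟨c, hc⟩ := exists_prime_orderOf_dvd_card' r
    (show r ∣ Nat.card (E ⧸ U.subgroupOf E) from hd)
  obtain ⟨x, rfl⟩ := QuotientGroup.mk_surjective c
  have hxU : (x : A) ∉ U := by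
    intro hx
    rw [(QuotientGroup.eq_one_iff x).2 (mem_subgroupOf.2 hx), orderOf_one] at hc
    exact hr.one_lt.ne hc
  have hxr : (x : A) ^ r ∈ U := by
    have := pow_orderOf_eq_one (x : E ⧸ U.subgroupOf E)
    rw [hc, ← QuotientGroup.mk_pow, QuotientGroup.eq_one_iff, mem_subgroupOf] at this
    exact this
  obtain ⟨y, hy, hne⟩ := h.exists_comm_ne_one x.2 hxU
  set z := ⁅(x : A), y⁆ with hz
  have hzU : z ∈ U := h.comm x x.2 y hy
  -- `y x y⁻¹ = z⁻¹ x`
  have h1 : y * (x : A) * y⁻¹ = z⁻¹ * x := by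
    rw [hz, commutatorElement_def]; group
  have h2 : (z⁻¹ * (x : A)) ^ r = (x : A) ^ r := by
    rw [← h1, conj_pow, ← h.commute hxr hy, mul_inv_cancel_right]
  have hcm : Commute z⁻¹ (x : A) := Commute.inv_left (show Commute z x from h.commute hzU x.2)
  rw [hcm.mul_pow, mul_eq_right, inv_pow, inv_eq_one] at h2
  have hord : orderOf (⟨z, hzU⟩ : U) = r :=
    orderOf_eq_prime (Subtype.ext h2) fun e => hne (congrArg Subtype.val e)
  exact hord ▸ orderOf_dvd_natCard _

/-- The action on the layer modulo the scalars. -/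
noncomputable def act (h : Layer U E) [U.Normal] [E.Normal] [(U.subgroupOf E).Normal] :
    A →* MulAut (E ⧸ U.subgroupOf E) where
  toFun a := QuotientGroup.congr (U.subgroupOf E) (U.subgroupOf E) (MulAut.conjNormal a) (by
    have _ := h
    ext x
    constructor
    · rintro ⟨y, hy, rfl⟩
      exact Subgroup.Normal.conj_mem ‹U.Normal› _ hy a
    · intro hx
      refine ⟨MulAut.conjNormal a⁻¹ x, Subgroup.Normal.conj_mem ‹U.Normal› _ hx a⁻¹, ?_⟩
      show MulAut.conjNormal a (MulAut.conjNormal a⁻¹ x) = x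
      rw [← MulAut.mul_apply, ← map_mul, mul_inv_cancel, map_one, MulAut.one_apply])
  map_one' := by
    ext x
    induction x using QuotientGroup.induction_on with
    | _ y => simp
  map_mul' a b := by
    ext x
    induction x using QuotientGroup.induction_on with
    | _ y => simp

theorem act_mk (h : Layer U E) [U.Normal] [E.Normal] [(U.subgroupOf E).Normal] (a : A) (x : E) :
    h.act a (x : E ⧸ U.subgroupOf E) =
      ((MulAut.conjNormal a x : E) : E ⧸ U.subgroupOf E) := rfl

theorem act_fix_iff (h : Layer U E) [U.Normal] [E.Normal] [(U.subgroupOf E).Normal] (a : A) (x : E) :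
    h.act a (x : E ⧸ U.subgroupOf E) = x ↔ ⁅a, (x : A)⁆ ∈ U := by
  rw [act_mk, QuotientGroup.eq, mem_subgroupOf]
  show (a * (x : A) * a⁻¹)⁻¹ * x ∈ U ↔ _
  have e : (a * (x : A) * a⁻¹)⁻¹ * x = (x : A)⁻¹ * ⁅a, (x : A)⁆⁻¹ * x := by
    rw [commutatorElement_def]; group
  rw [e]
  constructor
  · intro hh
    convert U.inv_mem (Subgroup.Normal.conj_mem ‹U.Normal› _ hh (x : A)) using 1
    group
  · intro hh
    exact Subgroup.Normal.conj_mem' ‹U.Normal› _ (U.inv_mem hh) (x : A)

theorem act_eq_one_iff (h : Layer U E) [U.Normal] [E.Normal] [(U.subgroupOf E).Normal] (a : A) :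
    h.act a = 1 ↔ ∀ x ∈ E, ⁅a, x⁆ ∈ U := by
  constructor
  · intro e x hx
    exact (h.act_fix_iff a ⟨x, hx⟩).1 (by rw [e]; rfl)
  · intro hh
    ext z
    induction z using QuotientGroup.induction_on with
    | _ y => exact (h.act_fix_iff a y).2 (hh y y.2)

theorem inf_ker_act [Finite A] [IsCyclic U] (h : Layer U E) [U.Normal] [E.Normal]
    [(U.subgroupOf E).Normal] : centralizer (U : Set A) ⊓ h.act.ker = E := by
  refine le_antisymm ?_ fun x hx => ⟨h.le_cent hx, (h.act_eq_one_iff x).2 fun y hy => h.comm x hx y hy⟩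
  refine h.le_of_acts_trivially inf_le_left (fun x hx =>
    ⟨h.le_cent hx, (h.act_eq_one_iff x).2 fun y hy => h.comm x hx y hy⟩) ?_
  intro y hy x hx
  exact (h.act_eq_one_iff y).1 hy.2 x hx

end Layer

end CfsgLib.OddBase
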