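import Cfsg.Agent.Lib.OddBase.Imprimitive

/-!
Fixed points in actions where a maximal abelian normal subgroup spans a field of scalars.
-/

set_option autoImplicit false
set_option linter.style.haveILetI false

open Subgroup
open scoped commutatorElement

namespace CfsgLib.OddBase

universe u w

variable {A : Type u} [Group A] {V : Type w} [AddCommGroup V]

/-- A maximal abelian normal subgroup spanning a field of scalars in a faithful action. -/
structure Quasi (ρ : A →* AddMonoid.End V) (U : Subgroup A) : Prop where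
  inj : Function.Injective ρ
  normal : U.Normal
  comm : ∀ x ∈ U, ∀ y ∈ U, x * y = y * x
  max : ∀ B : Subgroup A, B.Normal → (∀ x ∈ B, ∀ y ∈ B, x * y = y * x) → U ≤ B → B ≤ U
  scalar : ∀ r ∈ scalarRing ρ U, r ≠ 0 → Function.Injective r

/-- The vectors fixed by an element. -/
def fixed (ρ : A →* AddMonoid.End V) (a : A) : AddSubgroup V where
  carrier := {v | ρ a v = v}
  zero_mem' := map_zero _
  add_mem' {x y} hx hy := by
    simp only [Set.mem_ofPred_eq] at *
    rw [map_add, hx, hy]
  neg_mem' {x} hx := by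
    simp only [Set.mem_ofPred_eq] at *
    rw [map_neg, hx]

theorem mem_fixed {ρ : A →* AddMonoid.End V} {a : A} {v : V} : v ∈ fixed ρ a ↔ ρ a v = v := Iff.rfl

/-- The number of vectors fixed by an element. -/
noncomputable def fs (ρ : A →* AddMonoid.End V) (a : A) : ℕ := Nat.card (fixed ρ a)

/-- The commutator trick. -/
theorem fs_sq_le [Finite V] (ρ : A →* AddMonoid.End V) (a x : A) :
    fs ρ a ^ 2 ≤ Nat.card V * fs ρ ⁅a, x⁆ := by
  let Φ : fixed ρ a × fixed ρ a →+ V :=
    { toFun := fun p => (p.1 : V) - ρ x p.2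
      map_zero' := by simp
      map_add' := fun p q => by
        simp only [Prod.fst_add, Prod.snd_add, AddSubgroup.coe_add, map_add]; abel }
  have h := AddSubgroup.card_mul_index Φ.ker
  rw [AddSubgroup.index_ker, Nat.card_prod] at h
  have hker : Nat.card Φ.ker ≤ fs ρ ⁅a, x⁆ := by
    refine Nat.card_le_card_of_injective (fun p => ⟨((p.1.1 : fixed ρ a) : V), ?_⟩) ?_
    · obtain ⟨⟨v, w⟩, hp⟩ := p
      have hvw : (v : V) = ρ x (w : V) := sub_eq_zero.1 hp
      rw [mem_fixed, commutatorElement_def, apply_mul, apply_mul, apply_mul]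
      show ρ a (ρ x (ρ a⁻¹ (ρ x⁻¹ (v : V)))) = v
      rw [hvw, apply_inv_apply,
        show ρ a⁻¹ (w : V) = w by
          conv_lhs => rw [← w.2]
          rw [apply_inv_apply],
        ← hvw]
      exact v.2
    · rintro ⟨⟨v, w⟩, hp⟩ ⟨⟨v', w'⟩, hp'⟩ he
      have e : (v : V) = v' := congrArg (fun z : fixed ρ ⁅a, x⁆ => (z : V)) he
      have h1 : (v : V) = ρ x (w : V) := sub_eq_zero.1 hp
      have h2 : (v' : V) = ρ x (w' : V) := sub_eq_zero.1 hp'
      have e2 : (w : V) = w' := apply_injective ρ x (by rw [← h1, e, h2])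
      exact Subtype.ext (Prod.ext (Subtype.ext e) (Subtype.ext e2))
  rw [pow_two]
  calc fs ρ a * fs ρ a = Nat.card Φ.ker * Nat.card Φ.range := h.symm
    _ ≤ fs ρ ⁅a, x⁆ * Nat.card V := Nat.mul_le_mul hker
        (Nat.card_le_card_of_injective _ Subtype.val_injective)
    _ = _ := mul_comm _ _

namespace Quasi

variable {ρ : A →* AddMonoid.End V} {U : Subgroup A}

theorem sub_one_injective (h : Quasi ρ U) {u : A} (hu : u ∈ U) (h1 : u ≠ 1) :
    Function.Injective (ρ u - 1 : AddMonoid.End V) :=
  h.scalar _ (Subring.sub_mem _ (apply_mem_scalarRing ρ hu) (Subring.one_mem _)) fun e =>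
    h1 (h.inj (by rw [sub_eq_zero.1 e, map_one]))

theorem apply_eq_self (h : Quasi ρ U) {u : A} (hu : u ∈ U) (h1 : u ≠ 1) {v : V} (hv : ρ u v = v) :
    v = 0 := by
  apply h.sub_one_injective hu h1
  show ρ u v - v = ρ u 0 - 0
  rw [hv, map_zero, sub_self, sub_zero]

theorem fs_eq_one (h : Quasi ρ U) {u : A} (hu : u ∈ U) (h1 : u ≠ 1) : fs ρ u = 1 := by
  rw [fs, AddSubgroup.card_eq_one, eq_bot_iff]
  exact fun v hv => AddSubgroup.mem_bot.2 (h.apply_eq_self hu h1 hv)

/-- An element with a nontrivial commutator in the scalars fixes at most the square root. -/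
theorem fs_sq_le_card [Finite V] (h : Quasi ρ U) {a x : A} (hc : ⁅a, x⁆ ∈ U)
    (hne : ⁅a, x⁆ ≠ 1) : fs ρ a ^ 2 ≤ Nat.card V := by
  simpa [h.fs_eq_one hc hne] using fs_sq_le ρ a x

/-- An element moved by a scalar commutator of odd order fixes at most the cube root. -/
theorem fs_cube_le [Finite A] [Finite V] (hA : Odd (Nat.card A)) (h : Quasi ρ U) {b y : A}
    (hb : ∀ u ∈ U, b * u = u * b) (hy : ∀ u ∈ U, y * u = u * y) (hc : ⁅b, y⁆ ∈ U)
    (hne : ⁅b, y⁆ ≠ 1) : fs ρ b ^ 3 ≤ Nat.card V := by
  set z := ⁅b, y⁆ with hz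
  have hby : b * y = z * y * b := by rw [hz, commutatorElement_def]; group
  have hz2 : z * z ≠ 1 := fun e => hne (by
    have := eq_one_of_sq hA (MonoidHom.id A) (a := z) e
    simpa using this)
  let Φ : fixed ρ b × fixed ρ b × fixed ρ b →+ V :=
    { toFun := fun p => (p.1 : V) + ρ y p.2.1 + ρ (y * y) p.2.2
      map_zero' := by simp
      map_add' := fun p q => by
        simp only [Prod.fst_add, Prod.snd_add, AddSubgroup.coe_add, map_add]; abel }
  have hinj : Function.Injective Φ := by
    rw [injective_iff_map_eq_zero]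
    rintro ⟨v₁, v₂, v₃⟩ hp
    set w₂ := ρ y (v₂ : V) with hw₂
    set w₃ := ρ (y * y) (v₃ : V) with hw₃
    have h0 : (v₁ : V) + w₂ + w₃ = 0 := hp
    have hzy : z * y = y * z := (hy z hc).symm
    have hzb : b * z = z * b := hb z hc
    have b2 : ∀ v ∈ fixed ρ b, ρ b (ρ y v) = ρ z (ρ y v) := fun v hv => by
      rw [← apply_mul, hby, apply_mul, apply_mul, mem_fixed.1 hv]
    have e₂ : ρ b w₂ = ρ z w₂ := b2 _ v₂.2
    have e₃ : ρ b w₃ = ρ z (ρ z w₃) := by
      rw [hw₃, ← apply_mul, ← apply_mul, ← apply_mul]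
      have : b * (y * y) = z * (z * (y * y)) * b := by
        calc b * (y * y) = (b * y) * y := by group
          _ = (z * y * b) * y := by rw [hby]
          _ = z * y * (b * y) := by group
          _ = z * (y * z) * y * b := by rw [hby]; group
          _ = z * (z * y) * y * b := by rw [hzy]
          _ = _ := by group
      rw [this, apply_mul, v₃.2, mul_assoc z z]
    have ez : ∀ v, ρ b (ρ z v) = ρ z (ρ b v) := fun v => by
      rw [← apply_mul, hzb, apply_mul]
    have h1 : (v₁ : V) + ρ z w₂ + ρ z (ρ z w₃) = 0 := by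
      have := congrArg (ρ b) h0
      rw [map_add, map_add, map_zero, v₁.2, e₂, e₃] at this
      exact this
    have h2 : (v₁ : V) + ρ z (ρ z w₂) + ρ z (ρ z (ρ z (ρ z w₃))) = 0 := by
      have := congrArg (ρ b) h1
      rw [map_add, map_add, map_zero, v₁.2, ez, e₂, ez, ez, e₃] at this
      exact this
    have k1 : w₂ + (w₃ + ρ z w₃) = 0 := by
      apply h.sub_one_injective hc hne
      show ρ z (w₂ + (w₃ + ρ z w₃)) - (w₂ + (w₃ + ρ z w₃)) = ρ z 0 - 0
      rw [map_zero, sub_zero, map_add, map_add]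
      calc ρ z w₂ + (ρ z w₃ + ρ z (ρ z w₃)) - (w₂ + (w₃ + ρ z w₃))
          = ((v₁ : V) + ρ z w₂ + ρ z (ρ z w₃)) - ((v₁ : V) + w₂ + w₃) := by abel
        _ = 0 := by rw [h0, h1, sub_zero]
    have k2 : w₂ + (w₃ + ρ z (ρ z w₃)) = 0 := by
      apply h.sub_one_injective (U.mul_mem hc hc) hz2
      show ρ (z * z) (w₂ + (w₃ + ρ z (ρ z w₃))) - (w₂ + (w₃ + ρ z (ρ z w₃))) = ρ (z * z) 0 - 0
      rw [map_zero, sub_zero, apply_mul]
      simp only [map_add]
      calc ρ z (ρ z w₂) + (ρ z (ρ z w₃) + ρ z (ρ z (ρ z (ρ z w₃)))) -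
            (w₂ + (w₃ + ρ z (ρ z w₃)))
          = ((v₁ : V) + ρ z (ρ z w₂) + ρ z (ρ z (ρ z (ρ z w₃)))) - ((v₁ : V) + w₂ + w₃) := by abel
        _ = 0 := by rw [h0, h2, sub_zero]
    have k3 : w₃ = 0 := by
      have : ρ z w₃ = ρ z (ρ z w₃) := by
        have := k1.trans k2.symm
        exact add_left_cancel (add_left_cancel this)
      exact h.apply_eq_self hc hne (apply_injective ρ z this).symm
    rw [k3] at k1 h0
    simp only [map_zero, add_zero] at k1 h0
    rw [k1, add_zero] at h0
    have hv₂ : (v₂ : V) = 0 := apply_injective ρ y (k1.trans (map_zero _).symm)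
    have hv₃ : (v₃ : V) = 0 := apply_injective ρ (y * y) (k3.trans (map_zero _).symm)
    exact Prod.ext (Subtype.ext h0) (Prod.ext (Subtype.ext hv₂) (Subtype.ext hv₃))
  have := Nat.card_le_card_of_injective Φ hinj
  rw [Nat.card_prod, Nat.card_prod] at this
  rw [pow_succ, pow_two, mul_assoc]
  exact this

/-- The scalar ring is a field. -/
theorem isField [Finite V] [Nontrivial V] (h : Quasi ρ U) : IsField (scalarRing ρ U) := by
  haveI : Finite (AddMonoid.End V) := Finite.of_injective _ DFunLike.coe_injective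
  refine ⟨⟨0, 1, fun e => ?_⟩, fun x y => Subtype.ext (scalarRing_comm ρ h.comm x.2 y.2), ?_⟩
  · obtain ⟨v, hv⟩ := exists_ne (0 : V)
    exact hv (DFunLike.congr_fun (congrArg Subtype.val e) v).symm
  · intro r hr
    have hinj : Function.Injective fun s : scalarRing ρ U => r * s := by
      intro s t hst
      apply Subtype.ext
      ext v
      exact h.scalar r.1 r.2 (fun e => hr (Subtype.ext e))
        (DFunLike.congr_fun (congrArg Subtype.val hst) v)
    exact (Finite.injective_iff_surjective.1 hinj) 1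

/-- The elements commuting with the scalars. -/
theorem comm_scalar (_h : Quasi ρ U) {a : A} (ha : a ∈ centralizer (U : Set A))
    {r : AddMonoid.End V} (hr : r ∈ scalarRing ρ U) : ρ a * r = r * ρ a := by
  have : scalarRing ρ U ≤ Subring.centralizer {ρ a} := by
    refine Subring.closure_le.2 ?_
    rintro _ ⟨x, hx, rfl⟩ _ rfl
    rw [← map_mul, ← map_mul, (mem_centralizer_iff.1 ha x hx).symm]
  exact (this hr) _ rfl

theorem mem_centralizer_of_comm (h : Quasi ρ U) {a : A}
    (ha : ∀ r ∈ scalarRing ρ U, ρ a * r = r * ρ a) : a ∈ centralizer (U : Set A) := by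
  rw [mem_centralizer_iff]
  intro x hx
  apply h.inj
  rw [map_mul, map_mul, ha _ (apply_mem_scalarRing ρ hx)]

/-- A generator of the multiplicative group of the scalars determines the centraliser. -/
theorem exists_generator [Finite V] [Nontrivial V] (h : Quasi ρ U) :
    ∃ k : scalarRing ρ U, k ≠ 0 ∧ (3 ≤ Nat.card (scalarRing ρ U) → k ≠ 1) ∧
      ∀ a : A, ρ a * k.1 = k.1 * ρ a → a ∈ centralizer (U : Set A) := by
  letI := h.isField.toField
  haveI : Finite (AddMonoid.End V) := Finite.of_injective _ DFunLike.coe_injective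
  obtain ⟨g, hg⟩ := IsCyclic.exists_generator (α := (scalarRing ρ U)ˣ)
  refine ⟨g, g.ne_zero, fun h3 e => ?_, fun a ha => h.mem_centralizer_of_comm fun r hr => ?_⟩
  · have hg1 : g = 1 := Units.ext e
    have : Nat.card (scalarRing ρ U)ˣ = 1 := by
      rw [Nat.card_eq_one_iff_unique]
      refine ⟨⟨fun x y => ?_⟩, ⟨1⟩⟩
      obtain ⟨i, rfl⟩ := hg x
      obtain ⟨j, rfl⟩ := hg y
      simp [hg1]
    rw [Nat.card_units] at this
    omega
  · rcases eq_or_ne r 0 with rfl | hr0
    · simp
    · obtain ⟨i, hi⟩ := (mem_powers_iff_mem_zpowers.2 (hg (Units.mk0 ⟨r, hr⟩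
        (fun e => hr0 (congrArg Subtype.val e)))) : _)
      have e : (g : scalarRing ρ U).1 ^ i = r := congrArg Subtype.val (congrArg Units.val hi)
      rw [← e]
      exact Commute.pow_right ha i

/-- The semilinear case. -/
theorem based_of_centralizer_le [Finite V] [Nontrivial V] (h : Quasi ρ U)
    (hC : centralizer (U : Set A) ≤ U) : Based ρ := by
  obtain ⟨k, hk, -, hgen⟩ := h.exists_generator
  obtain ⟨v, hv⟩ := exists_ne (0 : V)
  refine ⟨(v, k.1 v), fun a h1 h2 => ?_⟩
  simp only at h1 h2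
  haveI := h.normal
  have hc := conjEnd_mem ρ U a k.2
  have e : (conjEnd ρ a k.1 - k.1) v = 0 := by
    show conjEnd ρ a k.1 v - k.1 v = 0
    have h3 : ρ a (k.1 v) = conjEnd ρ a k.1 (ρ a v) :=
      DFunLike.congr_fun (mul_eq_conjEnd_mul ρ a k.1) v
    rw [h2, h1] at h3
    rw [← h3, sub_self]
  have hce : conjEnd ρ a k.1 = k.1 := by
    by_contra hne
    exact hv (h.scalar _ (Subring.sub_mem _ hc k.2) (sub_ne_zero.2 hne) (e.trans (map_zero _).symm))
  have haU : a ∈ U := hC (hgen a ((mul_eq_conjEnd_mul ρ a k.1).trans (by rw [hce])))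
  rcases eq_or_ne a 1 with rfl | ha
  · exact map_one _
  · exact absurd (h.apply_eq_self haU ha h1) hv

/-- The centraliser of the scalars has small index. -/
theorem index_centralizer_le [Finite A] [Finite V] [Nontrivial V] (h : Quasi ρ U)
    (h3 : 3 ≤ Nat.card (scalarRing ρ U)) :
    (centralizer (U : Set A)).index + 2 ≤ Nat.card (scalarRing ρ U) := by
  classical
  haveI := h.normal
  obtain ⟨k, hk, hk1, hgen⟩ := h.exists_generator
  haveI : Finite (AddMonoid.End V) := Finite.of_injective _ DFunLike.coe_injective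
  cases nonempty_fintype (scalarRing ρ U)
  let f : A → scalarRing ρ U := fun a => ⟨conjEnd ρ a k.1, conjEnd_mem ρ U a k.2⟩
  have hf : ∀ a, f a ≠ 0 ∧ f a ≠ 1 := by
    intro a
    have hinj : Function.Injective (conjEnd ρ a) := fun x y e => by
      have := congrArg (conjEnd ρ a⁻¹) e
      rwa [← conjEnd_mul, ← conjEnd_mul, inv_mul_cancel, conjEnd_one, conjEnd_one] at this
    exact ⟨fun e => hk (Subtype.ext (hinj ((congrArg Subtype.val e).trans (map_zero _).symm))),
      fun e => hk1 h3 (Subtype.ext (hinj ((congrArg Subtype.val e).trans (map_one _).symm)))⟩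
  let g : A ⧸ centralizer (U : Set A) → {r : scalarRing ρ U // r ∉ ({0, 1} : Finset _)} :=
    fun x => ⟨f x.out, by simp [(hf x.out).1, (hf x.out).2]⟩
  have hg : Function.Injective g := by
    intro x y e
    have e' : conjEnd ρ x.out k.1 = conjEnd ρ y.out k.1 :=
      congrArg Subtype.val (congrArg Subtype.val e)
    rw [← Quotient.out_eq x, ← Quotient.out_eq y]
    refine Quotient.sound (QuotientGroup.leftRel_apply.2 ?_)
    apply hgen
    have h1 : conjEnd ρ (x.out⁻¹ * y.out) k.1 = k.1 := by
      rw [conjEnd_mul, ← e', ← conjEnd_mul, inv_mul_cancel, conjEnd_one]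
    exact (mul_eq_conjEnd_mul ρ _ k.1).trans (by rw [h1])
  have h2 := Nat.card_le_card_of_injective g hg
  rw [Nat.card_eq_fintype_card (α := {r : scalarRing ρ U // _}), Fintype.card_subtype_compl,
    ← Nat.card_eq_fintype_card] at h2
  simp only [Fintype.card_coe] at h2
  have h01 : ({0, 1} : Finset (scalarRing ρ U)).card = 2 := by
    letI := h.isField.toField
    exact Finset.card_pair zero_ne_one
  rw [h01] at h2
  rw [Subgroup.index]
  omega

/-- The abelian normal subgroup is smaller than the scalar field. -/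
theorem card_lt [Finite V] [Nontrivial V] (h : Quasi ρ U) :
    Nat.card U < Nat.card (scalarRing ρ U) := by
  haveI : Finite (AddMonoid.End V) := Finite.of_injective _ DFunLike.coe_injective
  let g : Option U → scalarRing ρ U :=
    fun o => o.elim 0 fun x => ⟨ρ x, apply_mem_scalarRing ρ x.2⟩
  obtain ⟨v, hv⟩ := exists_ne (0 : V)
  have hne : ∀ x : U, ρ (x : A) ≠ 0 := fun x e =>
    hv (apply_injective ρ (x : A) (by rw [e]; rfl))
  have hg : Function.Injective g := by
    rintro (_ | x) (_ | y) e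
    · rfl
    · exact absurd (congrArg Subtype.val e).symm (hne y)
    · exact absurd (congrArg Subtype.val e) (hne x)
    · exact congrArg some (Subtype.ext (h.inj (congrArg Subtype.val e)))
  haveI : Finite U := Finite.of_injective (g ∘ some) (hg.comp (Option.some_injective _))
  have := Nat.card_le_card_of_injective g hg
  rw [Finite.card_option] at this
  omega

/-- The abelian normal subgroup is cyclic. -/
theorem isCyclic [Finite A] [Finite V] [Nontrivial V] (h : Quasi ρ U) : IsCyclic U := by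
  letI := h.isField.toField
  exact isCyclic_of_subgroup_isDomain
    ({ toFun := fun x => ⟨ρ x, apply_mem_scalarRing ρ x.2⟩
       map_one' := Subtype.ext (map_one ρ)
       map_mul' := fun x y => Subtype.ext (map_mul ρ _ _) } : U →* scalarRing ρ U)
    fun x y e => Subtype.ext (h.inj (congrArg Subtype.val e))

end Quasi

end CfsgLib.OddBase
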